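import Cfsg.Agent.H38.D4Deg.Elems
import Cfsg.Agent.H37.Twist.D4Perfect

/-!
The action of the torus and of the Weyl representatives of `³D₄(q)` on the root elements of the
Heisenberg parabolic, and their membership in the twisted group.
-/
set_option autoImplicit false
set_option maxRecDepth 100000

namespace Cfsg.Agent.H38.D4Deg

open Cfsg.Lie Cfsg.Agent.H37 Cfsg.Agent.H37.RootSys Cfsg.Agent.H37.Twist
  Cfsg.Agent.H37.Twist.D4

variable {K : Type*} [Field K]

/-- The representative of the reflection in the short simple root. -/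
def wA : ↥(chevD4.group K) := nUG (QD K) 18 1 * nUG (QD K) 13 1 * nUG (QD K) 12 1

/-- The representative of the reflection in the long simple root. -/
def wB : ↥(chevD4.group K) := nUG (QD K) 14 1

theorem ns_x {i : ℕ} (hi : i < 4) {a : ℕ} (ha : chevD4.simple i = a) {r k : ℕ} {s : ℤ}
    (hr : r < 24) (hk : Chevalley.D4.cert.w i r = k) (hs : Chevalley.D4.cert.sg i r = s) (t : K) :
    nUG (QD K) a 1 * xe r t * (nUG (QD K) a 1)⁻¹ = xe k ((s : K) * t) := by
  subst ha hk hs
  exact Subtype.ext ((QD K).K.nS_conj_xU K hi hr t)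

/-- The image of a root under `wA`, with its sign. -/
def imgB (r k : ℕ) (S : ℤ) : Bool :=
  decide (r < 24) && decide (Chevalley.D4.cert.w 3 r < 24) &&
  decide (Chevalley.D4.cert.w 2 (Chevalley.D4.cert.w 3 r) < 24) &&
  decide (Chevalley.D4.cert.w 0 (Chevalley.D4.cert.w 2 (Chevalley.D4.cert.w 3 r)) = k) &&
  decide (Chevalley.D4.cert.sg 0 (Chevalley.D4.cert.w 2 (Chevalley.D4.cert.w 3 r)) *
    Chevalley.D4.cert.sg 2 (Chevalley.D4.cert.w 3 r) * Chevalley.D4.cert.sg 3 r = S)

theorem wA_x {r : ℕ} (k : ℕ) (S : ℤ) (h : imgB r k S = true) (t : K) :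
    wA * xe r t * wA⁻¹ = xe k ((S : K) * t) := by
  simp only [imgB, Bool.and_eq_true, decide_eq_true_eq] at h
  obtain ⟨⟨⟨⟨hr, hk1⟩, hk2⟩, hk⟩, hS⟩ := h
  obtain ⟨e0, -, e2, e3⟩ := simple_ok
  rw [wA, mul_inv_rev, mul_inv_rev,
    show nUG (QD K) 18 1 * nUG (QD K) 13 1 * nUG (QD K) 12 1 * xe r t *
        ((nUG (QD K) 12 1)⁻¹ * ((nUG (QD K) 13 1)⁻¹ * (nUG (QD K) 18 1)⁻¹)) =
      nUG (QD K) 18 1 * (nUG (QD K) 13 1 * (nUG (QD K) 12 1 * xe r t * (nUG (QD K) 12 1)⁻¹) *
        (nUG (QD K) 13 1)⁻¹) * (nUG (QD K) 18 1)⁻¹ by group,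
    ns_x (i := 3) (by decide) e3 hr rfl rfl, ns_x (i := 2) (by decide) e2 hk1 rfl rfl,
    ns_x (i := 0) (by decide) e0 hk2 rfl rfl, hk, ← hS]
  push_cast
  rw [mul_assoc, mul_assoc]

theorem conj_mul3 {G : Type*} [Group G] (n x y z : G) :
    n * (x * (y * z)) * n⁻¹ = n * x * n⁻¹ * (n * y * n⁻¹ * (n * z * n⁻¹)) := by group

theorem wA_B (t : K) : wA * xB t * wA⁻¹ = xE (-t) := by
  rw [xB, wA_x 22 (-1) (by decide +kernel)]
  simp [xE]

theorem wA_E (t : K) : wA * xE t * wA⁻¹ = xB t := by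
  rw [xE, wA_x 14 1 (by decide +kernel)]
  simp [xB]

theorem wA_Z (t : K) : wA * xZ t * wA⁻¹ = xZ t := by
  rw [xZ, wA_x 23 1 (by decide +kernel)]
  simp

theorem wB_E (t : K) : wB * xE t * wB⁻¹ = xZ t := by
  rw [xE, wB, ns_x (i := 1) (by decide) simple_ok.2.1 (by decide) (k := 23) (s := 1)
    (by decide +kernel) (by decide +kernel)]
  simp [xZ]

variable (φ : K →+* K)

theorem wA_C (t : K) : wA * xC φ t * wA⁻¹ = xD φ t := by
  rw [xC, conj_mul3, wA_x (r := 19) 17 1 (by decide +kernel),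
    wA_x (r := 16) 20 1 (by decide +kernel), wA_x (r := 15) 21 1 (by decide +kernel)]
  simp [xD]

theorem wA_D (t : K) : wA * xD φ t * wA⁻¹ = xC φ (-t) := by
  rw [xD, conj_mul3, wA_x (r := 17) 19 (-1) (by decide +kernel),
    wA_x (r := 20) 16 (-1) (by decide +kernel), wA_x (r := 21) 15 (-1) (by decide +kernel)]
  simp [xC]

/-! The torus. -/

/-- The coordinates of a torus element. -/
def tc (x y : Kˣ) : Fin chevD4.rank → Kˣ :=
  ![x, y, Units.map φ.toMonoidHom x, Units.map φ.toMonoidHom (Units.map φ.toMonoidHom x)]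

/-- The torus element. -/
def xH (x y : Kˣ) : ↥(chevD4.group K) := tG (QD K) (tc φ x y)

theorem chT_tc (x y : Kˣ) (r : ℕ) {a b c d : ℤ} (ha : chevD4.cartan 0 r = a)
    (hb : chevD4.cartan 1 r = b) (hc : chevD4.cartan 2 r = c) (hd : chevD4.cartan 3 r = d) :
    ((chT (tc φ x y) r : Kˣ) : K) =
      (x : K) ^ a * (y : K) ^ b * φ x ^ c * φ (φ x) ^ d := by
  subst ha hb hc hd
  rw [show chT (tc φ x y) r = ∏ m : Fin 4, tc φ x y m ^ chevD4.cartan m.val r from rfl,
    Fin.prod_univ_four]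
  simp [tc]

/-- Moving a root element past the torus. -/
theorem xe_H (x y : Kˣ) {r : ℕ} (hr : r < 24) (t : K) {w : K}
    (hw : ((chT (tc φ x y) r : Kˣ) : K) * w = 1) :
    xe r t * xH φ x y = xH φ x y * xe r (w * t) := by
  have := tG_conj (QD K) (tc φ x y) (r := r) hr (w * t)
  rw [← mul_assoc, hw, one_mul, mul_inv_eq_iff_eq_mul] at this
  exact this.symm

theorem B_H (x y : Kˣ) (b : K) : xB b * xH φ x y =
    xH φ x y * xB ((x : K) * φ x * φ (φ x) / (y : K) ^ 2 * b) := by
  refine xe_H φ x y (by decide) b ?_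
  rw [chT_tc φ x y 14 (a := -1) (b := 2) (c := -1) (d := -1) (by decide +kernel)
    (by decide +kernel) (by decide +kernel) (by decide +kernel)]
  have := x.ne_zero
  have := y.ne_zero
  simp only [zpow_neg, zpow_one, zpow_ofNat]
  field_simp

theorem E_H (x y : Kˣ) (e : K) : xE e * xH φ x y =
    xH φ x y * xE ((y : K) / ((x : K) * φ x * φ (φ x)) * e) := by
  refine xe_H φ x y (by decide) e ?_
  rw [chT_tc φ x y 22 (a := 1) (b := -1) (c := 1) (d := 1) (by decide +kernel)
    (by decide +kernel) (by decide +kernel) (by decide +kernel)]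
  have := x.ne_zero
  have := y.ne_zero
  simp only [zpow_neg, zpow_one]
  field_simp

theorem Z_H (x y : Kˣ) (z : K) : xZ z * xH φ x y = xH φ x y * xZ ((y : K)⁻¹ * z) := by
  refine xe_H φ x y (by decide) z ?_
  rw [chT_tc φ x y 23 (a := 0) (b := 1) (c := 0) (d := 0) (by decide +kernel)
    (by decide +kernel) (by decide +kernel) (by decide +kernel)]
  simp

variable {φ} (h3 : ∀ t, φ (φ (φ t)) = t)

include h3

theorem C_H (x y : Kˣ) (hy : φ (y : K) = y) (c : K) : xC φ c * xH φ x y =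
    xH φ x y * xC φ ((x : K) * φ x * φ (φ x) / ((x : K) ^ 2 * y) * c) := by
  set N := (x : K) * φ x * φ (φ x) with hN
  have hNf : φ N = N := by rw [hN, map_mul, map_mul, h3]; ring
  set w := N / ((x : K) ^ 2 * y) with hw
  have := x.ne_zero
  have := y.ne_zero
  have h19 : ((chT (tc φ x y) 19 : Kˣ) : K) * w = 1 := by
    rw [chT_tc φ x y 19 (a := 1) (b := 1) (c := -1) (d := -1) (by decide +kernel)
      (by decide +kernel) (by decide +kernel) (by decide +kernel), hw, hN]
    simp only [zpow_neg, zpow_one]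
    field_simp
  have h16 : ((chT (tc φ x y) 16 : Kˣ) : K) * φ w = 1 := by
    rw [chT_tc φ x y 16 (a := -1) (b := 1) (c := 1) (d := -1) (by decide +kernel)
      (by decide +kernel) (by decide +kernel) (by decide +kernel), hw, map_div₀, hNf, map_mul,
      map_pow, hy, hN]
    simp only [zpow_neg, zpow_one]
    field_simp
  have h15 : ((chT (tc φ x y) 15 : Kˣ) : K) * φ (φ w) = 1 := by
    rw [chT_tc φ x y 15 (a := -1) (b := 1) (c := -1) (d := 1) (by decide +kernel)
      (by decide +kernel) (by decide +kernel) (by decide +kernel), hw, map_div₀, hNf, map_div₀,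
      hNf, map_mul, map_pow, hy, map_mul, map_pow, hy, hN]
    simp only [zpow_neg, zpow_one]
    field_simp
  rw [xC, mul_assoc, mul_assoc, xe_H φ x y (by decide) _ h15, ← mul_assoc (xe 16 _),
    xe_H φ x y (by decide) _ h16, mul_assoc, ← mul_assoc (xe 19 _),
    xe_H φ x y (by decide) _ h19, mul_assoc]
  simp [xC, map_mul]

theorem D_H (x y : Kˣ) (d : K) : xD φ d * xH φ x y =
    xH φ x y * xD φ ((x : K) ^ 2 / ((x : K) * φ x * φ (φ x)) * d) := by
  set N := (x : K) * φ x * φ (φ x) with hN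
  have hNf : φ N = N := by rw [hN, map_mul, map_mul, h3]; ring
  set w := (x : K) ^ 2 / N with hw
  have := x.ne_zero
  have h17 : ((chT (tc φ x y) 17 : Kˣ) : K) * w = 1 := by
    rw [chT_tc φ x y 17 (a := -1) (b := 0) (c := 1) (d := 1) (by decide +kernel)
      (by decide +kernel) (by decide +kernel) (by decide +kernel), hw, hN]
    simp only [zpow_neg, zpow_one, zpow_zero, mul_one]
    field_simp
  have h20 : ((chT (tc φ x y) 20 : Kˣ) : K) * φ w = 1 := by
    rw [chT_tc φ x y 20 (a := 1) (b := 0) (c := -1) (d := 1) (by decide +kernel)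
      (by decide +kernel) (by decide +kernel) (by decide +kernel), hw, map_div₀, hNf, map_pow, hN]
    simp only [zpow_neg, zpow_one, zpow_zero, mul_one]
    field_simp
  have h21 : ((chT (tc φ x y) 21 : Kˣ) : K) * φ (φ w) = 1 := by
    rw [chT_tc φ x y 21 (a := 1) (b := 0) (c := 1) (d := -1) (by decide +kernel)
      (by decide +kernel) (by decide +kernel) (by decide +kernel), hw, map_div₀, hNf, map_div₀,
      hNf, map_pow, map_pow, hN]
    simp only [zpow_neg, zpow_one, zpow_zero, mul_one]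
    field_simp
  rw [xD, mul_assoc, mul_assoc, xe_H φ x y (by decide) _ h21, ← mul_assoc (xe 20 _),
    xe_H φ x y (by decide) _ h20, mul_assoc, ← mul_assoc (xe 17 _),
    xe_H φ x y (by decide) _ h17, mul_assoc]
  simp [xD, map_mul]

omit h3

/-! Membership. -/

variable [Fintype K] {q : ℕ} (hφ : ∀ t, φ t = t ^ q) (hK : Fintype.card K = q ^ 3)

include hφ hK

theorem mem_of_fixed {g : ↥(chevD4.group K)} (hg : (endo φ).σ g = g) :
    (g : GL chevD4.Idx K) ∈ twistedD4 K q :=
  (SetLike.ext_iff.1 (model hφ hK).fixed_eq g).2 hg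

theorem mem_A (t : K) : ((xA φ t : ↥(chevD4.group K)) : GL chevD4.Idx K) ∈ twistedD4 K q := by
  rw [xA, hφ, hφ, ← mul_assoc]
  exact triple_mem (by decide) t

theorem mem_B {t : K} (ht : φ t = t) :
    ((xB t : ↥(chevD4.group K)) : GL chevD4.Idx K) ∈ twistedD4 K q :=
  single_mem (by decide) (by rw [← hφ, ht])

omit hφ hK [Fintype K] in
theorem σ_sgn {r k : ℕ} {s : ℤ} (hr : r < chevD4.nroots) (hk : tables.rh r = k)
    (hs : Sym.dataD4a.sg r = s) (t : K) :
    (endo φ).σ (xe r t) = xe k ((s : K) * φ t) := by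
  rw [xe, (endo φ).σ_x r hr]
  show xe (tables.rh r) ((Sym.dataD4a.sg r : K) * φ t) = _
  rw [hk, hs]

omit [Fintype K] q hφ hK in
include h3 in
theorem σ_C (t : K) : (endo φ).σ (xC φ t) = xC φ t := by
  rw [xC, map_mul, map_mul, σ_sgn (k := 16) (s := -1) (by decide) (by decide +kernel) (by decide +kernel),
    σ_sgn (k := 15) (s := 1) (by decide) (by decide +kernel) (by decide +kernel),
    σ_sgn (k := 19) (s := -1) (by decide) (by decide +kernel) (by decide +kernel)]
  simp only [map_neg, h3, Int.cast_neg, Int.cast_one, one_mul, neg_mul, neg_neg, mul_assoc,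
    rules]

omit [Fintype K] q hφ hK in
include h3 in
theorem σ_D (t : K) : (endo φ).σ (xD φ t) = xD φ t := by
  rw [xD, map_mul, map_mul, σ_sgn (k := 20) (s := -1) (by decide) (by decide +kernel) (by decide +kernel),
    σ_sgn (k := 21) (s := 1) (by decide) (by decide +kernel) (by decide +kernel),
    σ_sgn (k := 17) (s := -1) (by decide) (by decide +kernel) (by decide +kernel)]
  simp only [map_neg, h3, Int.cast_neg, Int.cast_one, one_mul, neg_mul, neg_neg, mul_assoc,
    rules]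

include h3 in
theorem mem_C (t : K) : ((xC φ t : ↥(chevD4.group K)) : GL chevD4.Idx K) ∈ twistedD4 K q :=
  mem_of_fixed hφ hK (σ_C h3 t)

include h3 in
theorem mem_D (t : K) : ((xD φ t : ↥(chevD4.group K)) : GL chevD4.Idx K) ∈ twistedD4 K q :=
  mem_of_fixed hφ hK (σ_D h3 t)

theorem mem_wA : ((wA : ↥(chevD4.group K)) : GL chevD4.Idx K) ∈ twistedD4 K q := by
  have := tripleN_mem (q := q) hφ (1 : K)
  rwa [one_pow, one_pow] at this

omit hK [Fintype K] in
theorem mem_wB : ((wB : ↥(chevD4.group K)) : GL chevD4.Idx K) ∈ twistedD4 K q :=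
  (nh_single_mem hφ (one_pow q)).1

theorem mem_E {t : K} (ht : φ t = t) :
    ((xE t : ↥(chevD4.group K)) : GL chevD4.Idx K) ∈ twistedD4 K q := by
  rw [show (xE t : ↥(chevD4.group K)) = wA * xB (-t) * wA⁻¹ by rw [wA_B, neg_neg]]
  simp only [Subgroup.coe_mul, Subgroup.coe_inv]
  exact mul_mem (mul_mem (mem_wA hφ hK) (mem_B hφ hK (by rw [map_neg, ht])))
    (inv_mem (mem_wA hφ hK))

theorem mem_Z {t : K} (ht : φ t = t) :
    ((xZ t : ↥(chevD4.group K)) : GL chevD4.Idx K) ∈ twistedD4 K q := by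
  rw [show (xZ t : ↥(chevD4.group K)) = wB * xE t * wB⁻¹ from (wB_E t).symm]
  simp only [Subgroup.coe_mul, Subgroup.coe_inv]
  exact mul_mem (mul_mem (mem_wB hφ) (mem_E hφ hK ht)) (inv_mem (mem_wB hφ))

theorem mem_H (x y : Kˣ) (hy : φ (y : K) = y) :
    ((xH φ x y : ↥(chevD4.group K)) : GL chevD4.Idx K) ∈ twistedD4 K q := by
  refine D4.H_mem hφ hK _ (tG_mem _ _) ?_
  show (endo φ).σ (tG (QD K) (tc φ x y)) = tG (QD K) (tc φ x y)
  rw [(endo φ).σ_tG (noSign hφ)]
  refine congrArg _ ?_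
  obtain ⟨a2, a1, a3, a0⟩ := hat_four (φ := φ) (q := q) (tc φ x y)
  refine four_ext ?_ ?_ ?_ ?_
  · rw [a0]
    refine Units.ext ?_
    simp [tc, hφ, pow_three_card hK]
  · rw [a1]
    refine Units.ext ?_
    simp [tc, ← hφ, hy]
  · rw [a2]
    refine Units.ext ?_
    simp [tc, hφ]
  · rw [a3]
    refine Units.ext ?_
    simp [tc, hφ]

end Cfsg.Agent.H38.D4Deg
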