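import Cfsg.Agent.H38.D4Deg.Frame

/-!
A lower bound for the degrees of the representations of a group with the Heisenberg parabolic of
`³D₄(q)` in which the long root subgroup acts non-trivially.
-/
set_option autoImplicit false

namespace Cfsg.Agent.H38.D4Deg

open Module

variable {K : Type*} [Field K] [Fintype K] {σ : Cyc3 K}

namespace Cyc3

theorem exists_tr_ne {t0 : K} (h0 : σ.φ t0 ≠ t0) : ∃ t, σ.tr t ≠ 0 := by
  by_contra h
  push Not at h
  let v : Fin 3 → (K →* K) :=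
    ![MonoidHom.id K, σ.φ.toMonoidHom, σ.φ.toMonoidHom.comp σ.φ.toMonoidHom]
  have h01 : (v 0 : K →* K) ≠ v 1 := fun e => h0 (DFunLike.congr_fun e t0).symm
  have h02 : (v 0 : K →* K) ≠ v 2 := fun e => h0 (by
    have := DFunLike.congr_fun e (σ.φ t0)
    simp [v, σ.h3] at this
    exact this)
  have h12 : (v 1 : K →* K) ≠ v 2 := fun e => h0
    (σ.φ.injective (DFunLike.congr_fun e t0).symm)
  have hinj : Function.Injective v := by
    intro i j e
    fin_cases i <;> fin_cases j <;>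
      first
        | rfl | exact absurd e h01 | exact absurd e.symm h01 | exact absurd e h02
        | exact absurd e.symm h02 | exact absurd e h12 | exact absurd e.symm h12
  have hli := (linearIndependent_monoidHom K K).comp v hinj
  rw [Fintype.linearIndependent_iff] at hli
  refine one_ne_zero (hli (fun _ => 1) (funext fun t => ?_) 0)
  have := congrArg Subtype.val (h t)
  simpa [Fin.sum_univ_three, v, Cyc3.coe_tr] using this

theorem tr_surjective {t0 : K} (h0 : σ.φ t0 ≠ t0) : Function.Surjective σ.tr := by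
  intro a
  obtain ⟨t, ht⟩ := exists_tr_ne h0
  exact ⟨((a / σ.tr t : σ.F) : K) * t, by rw [σ.tr_smul, div_mul_cancel₀ _ ht]⟩

theorem exists_norm_one {t0 : K} (h0 : σ.φ t0 ≠ t0) :
    ∃ x : Kˣ, σ.nm x = 1 ∧ (x : K) ^ 2 ≠ 1 := by
  by_contra h
  push Not at h
  have key : ∀ t : K, σ.φ t = t ∨ σ.φ t = -t := by
    intro t
    rcases eq_or_ne t 0 with rfl | ht
    · simp
    have hn : σ.nm (σ.φ t / t) = 1 := Subtype.ext (by
      have := (map_ne_zero σ.φ).2 ht
      have := (map_ne_zero σ.φ).2 ((map_ne_zero σ.φ).2 ht)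
      simp only [Cyc3.coe_nm, map_div₀, σ.h3, OneMemClass.coe_one]
      field_simp)
    have := h (Units.mk0 _ (div_ne_zero ((map_ne_zero σ.φ).2 ht) ht)) hn
    rw [Units.val_mk0, div_pow, div_eq_one_iff_eq (pow_ne_zero 2 ht), sq_eq_sq_iff_eq_or_eq_neg]
      at this
    exact this
  have h1 : σ.φ t0 = -t0 := (key t0).resolve_left h0
  rcases key (t0 + 1) with h2 | h2
  · rw [map_add, map_one, h1] at h2
    exact h0 (h1.trans (add_right_cancel h2))
  · rw [map_add, map_one, h1] at h2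
    have h22 : (1 : K) = -1 := by linear_combination h2
    exact h0 (h1.trans (by linear_combination -t0 * h22))

end Cyc3

theorem mulShift_surjective {R : Type*} [Field R] [Fintype R] {ψ : AddChar R ℂ} (hψ : ψ ≠ 1) :
    Function.Bijective ψ.mulShift :=
  (Fintype.bijective_iff_injective_and_card _).2
    ⟨AddChar.to_mulShift_inj_of_isPrimitive (AddChar.IsPrimitive.of_ne_one hψ),
      AddChar.card_eq.symm⟩

theorem mulShift_cancel {R : Type*} [Field R] {ψ ψ' : AddChar R ℂ} {r : R} (hr : r ≠ 0)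
    (h : ψ.mulShift r = ψ'.mulShift r) : ψ = ψ' := by
  ext t
  have := DFunLike.congr_fun h (r⁻¹ * t)
  rwa [AddChar.mulShift_apply, AddChar.mulShift_apply, ← mul_assoc, mul_inv_cancel₀ hr,
    one_mul] at this

theorem infl_ne_one {t0 : K} (h0 : σ.φ t0 ≠ t0) {ε : AddChar σ.F ℂ} (hε : ε ≠ 1) :
    infl σ ε ≠ 1 := fun e => hε (by
  ext a
  obtain ⟨t, rfl⟩ := Cyc3.tr_surjective h0 a
  exact DFunLike.congr_fun e t)

/-- A scalar in `Kˣ`. -/
def iu (σ : Cyc3 K) (m : σ.Fˣ) : Kˣ := Units.map σ.F.subtype.toMonoidHom m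

theorem coe_iu (m : σ.Fˣ) : (iu σ m : K) = ((m : σ.F) : K) := rfl

/-- The action of a scalar. -/
def Psi.scal (ψ : Psi σ) (m : σ.Fˣ) : Psi σ := ψ.actH (iu σ m) (m ^ 2)

theorem Psi.scal_eq (ψ : Psi σ) (m : σ.Fˣ) :
    (ψ.scal m).β = ψ.β.mulShift ((m : σ.F)⁻¹) ∧
    (ψ.scal m).γ = ψ.γ.mulShift (((m : σ.F) : K)⁻¹) ∧
    (ψ.scal m).δ = ψ.δ.mulShift (((m : σ.F) : K)⁻¹) ∧
    (ψ.scal m).ε = ψ.ε.mulShift ((m : σ.F)⁻¹) := by
  have hm : (m : σ.F) ≠ 0 := m.ne_zero
  have hmK : ((m : σ.F) : K) ≠ 0 := fun e => hm (Subtype.ext e)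
  simp only [Psi.scal, Psi.actH, coe_iu, σ.nm_coe, SubmonoidClass.coe_pow, Units.val_pow_eq_pow_val]
  refine ⟨?_, ?_, ?_, ?_⟩ <;> congr 1 <;> field_simp

variable {G : Type*} [Group G] [Finite G] (P : Frame σ G)
  {V : Type*} [AddCommGroup V] [Module ℂ V] [FiniteDimensional ℂ V]
  (ρ : Representation ℂ G V)

/-- The fixed vectors of the centre. -/
def fixZ : Submodule ℂ V where
  carrier := {v | ∀ z, ρ (P.Z z) v = v}
  add_mem' ha hb z := by rw [map_add, ha z, hb z]
  zero_mem' z := map_zero _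
  smul_mem' c _ h z := by rw [map_smul, h z]

variable {P ρ} {t0 : K} (h0 : σ.φ t0 ≠ t0)

include h0

/-- Many vectors with non-trivial central character. -/
theorem exists_part_one (hZ : ∃ z, ρ (P.Z z) ≠ 1) :
    ∃ v : σ.Fˣ × σ.F × K → V, LinearIndependent ℂ v ∧
      Disjoint (Submodule.span ℂ (Set.range v)) (fixZ P ρ) ∧
      ∃ v0, v0 ∉ fixZ P ρ ∧ ∀ e, ρ (P.E e) v0 = v0 := by
  classical
  obtain ⟨z0, hz0⟩ := hZ
  obtain ⟨w0, hw0⟩ : ∃ w0, ρ (P.Z z0) w0 ≠ w0 := by
    by_contra h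
    push Not at h
    exact hz0 (LinearMap.ext h)
  let X : σ.F ⊕ σ.F ⊕ K → G := Sum.elim P.Z (Sum.elim P.E P.D)
  have hX : ∀ a b, X a * X b = X b * X a := by
    rintro (a | a | a) (b | b | b) <;> simp only [X, Sum.elim_inl, Sum.elim_inr]
    · rw [← P.Z_add, ← P.Z_add, add_comm]
    · exact P.Z_E a b
    · exact P.Z_D a b
    · exact (P.Z_E b a).symm
    · rw [← P.E_add, ← P.E_add, add_comm]
    · exact P.E_D a b
    · exact (P.Z_D b a).symm
    · exact (P.E_D b a).symm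
    · rw [← P.D_add, ← P.D_add, add_comm]
  obtain ⟨u, -, hu, heig, hmv⟩ := exists_eig_moved ρ X ⊤ (fun _ _ _ => trivial)
    (fun a b w _ => by
      rw [← Module.End.mul_apply, ← map_mul, hX, map_mul, Module.End.mul_apply])
    (a0 := Sum.inl z0) (w0 := w0) trivial hw0
  obtain ⟨ζ, hζ⟩ := exists_addChar ρ P.Z P.Z_add hu fun z => heig (Sum.inl z)
  obtain ⟨ε, hε⟩ := exists_addChar ρ P.E P.E_add hu fun z => heig (Sum.inr (Sum.inl z))
  obtain ⟨δ, hδ⟩ := exists_addChar ρ P.D P.D_add hu fun z => heig (Sum.inr (Sum.inr z))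
  have hζ1 : ζ ≠ 1 := fun e => hmv (by
    show ρ (P.Z z0) u = u
    rw [hζ, e, AddChar.one_apply, one_smul])
  let g : σ.Fˣ × σ.F × K → G := fun i => P.H 1 i.1 * P.B i.2.1 * P.C i.2.2
  let v : σ.Fˣ × σ.F × K → V := fun i => ρ (g i) u
  have hvne : ∀ i, v i ≠ 0 := fun i => Frame.ne_zero_move ρ _ hu
  have hvZ : ∀ i z, ρ (P.Z z) (v i) = ζ.mulShift ((i.1 : σ.F)⁻¹) z • v i := by
    intro i z
    have e : P.Z z * g i = g i * P.Z ((i.1 : σ.F)⁻¹ * z) := by
      simp only [g]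
      rw [← mul_assoc, ← mul_assoc, P.Z_H, mul_assoc (P.H 1 i.1), P.Z_B, ← mul_assoc,
        mul_assoc _ (P.Z _), P.Z_C, ← mul_assoc]
    show ρ (P.Z z) (ρ (g i) u) = _ • ρ (g i) u
    rw [Frame.move ρ _ _ _ u e, hζ, map_smul, AddChar.mulShift_apply]
  have hvE : ∀ i e, ρ (P.E e) (v i) =
      (ε.mulShift (i.1 : σ.F) * ζ.mulShift (-(i.2.1 * (i.1 : σ.F)))) e • v i := by
    intro i e
    have e' : P.E e * g i =
        g i * (P.E ((i.1 : σ.F) * e) * P.Z (-(i.2.1 * ((i.1 : σ.F) * e)))) := by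
      simp only [g]
      rw [← mul_assoc, ← mul_assoc, P.E_H, Units.val_one, map_one, div_one,
        mul_assoc (P.H 1 i.1), P.E_B]
      simp only [mul_assoc]
      rw [P.Z_C, ← mul_assoc (P.E _), P.E_C, mul_assoc]
    show ρ (P.E e) (ρ (g i) u) = _ • ρ (g i) u
    rw [Frame.move ρ _ _ _ u e', map_mul ρ (P.E _), Module.End.mul_apply, hζ, map_smul, hε, smul_smul,
      map_smul, AddChar.mul_apply, AddChar.mulShift_apply, AddChar.mulShift_apply, mul_comm,
      neg_mul, mul_assoc]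
  have hvD : ∀ i d, ρ (P.D d) (v i) = (δ * (infl σ ζ).mulShift i.2.2) d • v i := by
    intro i d
    have e' : P.D d * g i = g i * (P.D d * P.Z (σ.tr (i.2.2 * d))) := by
      simp only [g]
      rw [← mul_assoc, ← mul_assoc, P.D_H, Units.val_one, map_one, one_pow, OneMemClass.coe_one,
        div_one, one_mul, mul_assoc (P.H 1 i.1), P.D_B, ← mul_assoc, mul_assoc _ (P.D d), P.D_C]
      simp only [mul_assoc]
    show ρ (P.D d) (ρ (g i) u) = _ • ρ (g i) u
    rw [Frame.move ρ _ _ _ u e', map_mul ρ (P.D d), Module.End.mul_apply, hζ, map_smul, hδ, smul_smul,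
      map_smul, AddChar.mul_apply, AddChar.mulShift_apply, infl_apply, mul_comm]
  let c : σ.Fˣ × σ.F × K → σ.F ⊕ σ.F ⊕ K → ℂ := fun i => Sum.elim
    (fun z => ζ.mulShift ((i.1 : σ.F)⁻¹) z)
    (Sum.elim (fun e => (ε.mulShift (i.1 : σ.F) * ζ.mulShift (-(i.2.1 * (i.1 : σ.F)))) e)
      (fun d => (δ * (infl σ ζ).mulShift i.2.2) d))
  have hζinj := (mulShift_surjective hζ1).1
  have hc : Function.Injective c := by
    intro i j e
    have eZ : ζ.mulShift ((i.1 : σ.F)⁻¹) = ζ.mulShift ((j.1 : σ.F)⁻¹) :=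
      DFunLike.ext _ _ fun z => congrFun e (Sum.inl z)
    have e1 : i.1 = j.1 := Units.ext (inv_injective (hζinj eZ))
    have eE : ε.mulShift (i.1 : σ.F) * ζ.mulShift (-(i.2.1 * (i.1 : σ.F))) =
        ε.mulShift (j.1 : σ.F) * ζ.mulShift (-(j.2.1 * (j.1 : σ.F))) :=
      DFunLike.ext _ _ fun z => congrFun e (Sum.inr (Sum.inl z))
    rw [← e1] at eE
    have e2 : i.2.1 = j.2.1 := mul_right_cancel₀ i.1.ne_zero (neg_injective (hζinj (mul_left_cancel eE)))
    have eD : δ * (infl σ ζ).mulShift i.2.2 = δ * (infl σ ζ).mulShift j.2.2 :=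
      DFunLike.ext _ _ fun z => congrFun e (Sum.inr (Sum.inr z))
    exact Prod.ext e1 (Prod.ext e2
      ((mulShift_surjective (infl_ne_one h0 hζ1)).1 (mul_left_cancel eD)))
  have hli : LinearIndependent ℂ v := eig_li (fun a => ρ (X a)) v c (fun i a => by
    rcases a with a | a | a
    exacts [hvZ i a, hvE i a, hvD i a]) hvne hc
  refine ⟨v, hli, ?_, ?_⟩
  · rw [Submodule.disjoint_def]
    intro x hx hxZ
    obtain ⟨a, rfl⟩ := (Submodule.mem_span_range_iff_exists_fun ℂ).1 hx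
    have hz : ∀ z, ∑ i, (a i * (ζ.mulShift ((i.1 : σ.F)⁻¹) z - 1)) • v i = 0 := by
      intro z
      have := hxZ z
      rw [map_sum] at this
      simp only [map_smul, hvZ, smul_smul] at this
      simp only [mul_sub, mul_one, sub_smul, Finset.sum_sub_distrib, this, sub_self]
    refine Finset.sum_eq_zero fun i _ => ?_
    have hi : ζ.mulShift ((i.1 : σ.F)⁻¹) ≠ 1 := fun e =>
      inv_ne_zero i.1.ne_zero (hζinj (e.trans (AddChar.mulShift_zero ζ).symm))
    obtain ⟨z, hz1⟩ := AddChar.ne_one_iff.1 hi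
    rw [(mul_eq_zero.1 (Fintype.linearIndependent_iff.1 hli _ (hz z) i)).resolve_right
      (sub_ne_zero.2 hz1), zero_smul]
  · obtain ⟨r, hr⟩ := (mulShift_surjective hζ1).2 ε⁻¹
    refine ⟨v (1, -r, 0), fun h => ?_, fun e => ?_⟩
    · obtain ⟨z, hz1⟩ := AddChar.ne_one_iff.1 hζ1
      have := h z
      rw [hvZ, Units.val_one, inv_one, AddChar.mulShift_one] at this
      exact hz1 (smul_left_injective ℂ (hvne _) (this.trans (one_smul ℂ _).symm))
    · rw [hvE, Units.val_one, mul_one, neg_neg, AddChar.mulShift_one, hr, mul_inv_cancel,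
        AddChar.one_apply, one_smul]

/-- The radical moves a vector fixed by the centre. -/
theorem exists_moved (hZ : ∃ z, ρ (P.Z z) ≠ 1) :
    ∃ w ∈ fixZ P ρ, ¬ ∀ e, ρ (P.E e) w = w := by
  by_contra h
  push Not at h
  obtain ⟨-, -, -, v0, hv0, hv0E⟩ := exists_part_one h0 hZ
  let W : Submodule ℂ V :=
    { carrier := {v | ∀ e, ρ (P.E e) v = v}
      add_mem' := fun ha hb e => by rw [map_add, ha e, hb e]
      zero_mem' := fun e => map_zero _
      smul_mem' := fun c _ hv e => by rw [map_smul, hv e] }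
  have hlt : fixZ P ρ < W :=
    lt_of_le_of_ne (fun w hw => h w hw) fun e => hv0 (e ▸ hv0E)
  have h1 := Submodule.finrank_lt_finrank_of_lt hlt
  have hinj : Function.Injective (ρ P.wb) := fun a b e => by
    have := congrArg (ρ P.wb⁻¹) e
    rwa [← Module.End.mul_apply, ← map_mul, inv_mul_cancel, map_one, Module.End.one_apply,
      ← Module.End.mul_apply, ← map_mul, inv_mul_cancel, map_one, Module.End.one_apply] at this
  have hle : W.map (ρ P.wb) ≤ fixZ P ρ := by
    rintro _ ⟨w, hw, rfl⟩ z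
    rw [Frame.move ρ _ _ _ w (P.Z_wb z), hw z]
  have h2 := Submodule.finrank_mono hle
  rw [← (Submodule.equivMapOfInjective _ hinj W).finrank_eq] at h2
  omega

/-- A joint eigenvector whose character on `E` is non-trivial. -/
theorem exists_eig (hZ : ∃ z, ρ (P.Z z) ≠ 1) :
    ∃ u ψ, P.Eig ρ u ψ ∧ ψ.ε ≠ 1 := by
  obtain ⟨w, hw, hwE⟩ := exists_moved h0 hZ
  push Not at hwE
  obtain ⟨e0, he0⟩ := hwE
  let X : σ.F ⊕ K ⊕ K ⊕ σ.F → G := Sum.elim P.B (Sum.elim P.C (Sum.elim P.D P.E))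
  have hXZ : ∀ a z, P.Z z * X a = X a * P.Z z := by
    rintro (a | a | a | a) z
    exacts [P.Z_B z a, P.Z_C z a, P.Z_D z a, P.Z_E z a]
  have hinv : ∀ a, ∀ v ∈ fixZ P ρ, ρ (X a) v ∈ fixZ P ρ := fun a v hv z => by
    rw [Frame.move ρ _ _ _ v (hXZ a z), hv z]
  have hX : ∀ a b, ∃ z, X a * X b = X b * X a * P.Z z := by
    have hz : P.Z 0 = 1 := by
      have e := P.Z_add 0 0
      rw [add_zero] at e
      exact left_eq_mul.1 e
    have triv : ∀ {x y : G}, x * y = y * x → ∃ z, x * y = y * x * P.Z z :=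
      fun e => ⟨0, by rw [hz, mul_one, e]⟩
    have flip : ∀ {x y : G} {z : σ.F}, x * y = y * x * P.Z z →
        ∃ z', y * x = x * y * P.Z z' :=
      fun {x y z} e => ⟨-z, by rw [e, mul_assoc, ← P.Z_add, add_neg_cancel, hz, mul_one]⟩
    rintro (a | a | a | a) (b | b | b | b) <;> simp only [X, Sum.elim_inl, Sum.elim_inr]
    · exact triv (by rw [← P.B_add, ← P.B_add, add_comm])
    · exact triv (P.C_B b a).symm
    · exact triv (P.D_B b a).symm
    · exact flip (P.E_B b a)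
    · exact triv (P.C_B a b)
    · exact triv (by rw [← P.C_add, ← P.C_add, add_comm])
    · exact flip (P.D_C b a)
    · exact triv (P.E_C b a).symm
    · exact triv (P.D_B a b)
    · exact ⟨_, P.D_C a b⟩
    · exact triv (by rw [← P.D_add, ← P.D_add, add_comm])
    · exact triv (P.E_D b a).symm
    · exact ⟨_, P.E_B a b⟩
    · exact triv (P.E_C a b)
    · exact triv (P.E_D a b)
    · exact triv (by rw [← P.E_add, ← P.E_add, add_comm])
  obtain ⟨u, huW, hu, heig, hmv⟩ := exists_eig_moved ρ X (fixZ P ρ) hinv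
    (fun a b v hv => by
      obtain ⟨z, hz⟩ := hX a b
      rw [← Module.End.mul_apply, ← map_mul, hz, map_mul, Module.End.mul_apply, hv z, map_mul,
        Module.End.mul_apply])
    (a0 := Sum.inr (Sum.inr (Sum.inr e0))) hw he0
  obtain ⟨β, hβ⟩ := exists_addChar ρ P.B P.B_add hu fun z => heig (Sum.inl z)
  obtain ⟨γ, hγ⟩ := exists_addChar ρ P.C P.C_add hu fun z => heig (Sum.inr (Sum.inl z))
  obtain ⟨δ, hδ⟩ := exists_addChar ρ P.D P.D_add hu fun z => heig (Sum.inr (Sum.inr (Sum.inl z)))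
  obtain ⟨ε, hε⟩ := exists_addChar ρ P.E P.E_add hu fun z => heig (Sum.inr (Sum.inr (Sum.inr z)))
  refine ⟨u, ⟨β, γ, δ, ε⟩, ⟨hu, huW, hβ, hγ, hδ, hε⟩, fun e => hmv ?_⟩
  show ρ (P.E e0) u = u
  rw [hε, show ε = 1 from e, AddChar.one_apply, one_smul]

omit h0

/-- The bound from a family of distinct characters. -/
theorem card_le_of_eig {ι : Type*} [Fintype ι] (u : ι → V) (ψ : ι → Psi σ)
    (he : ∀ i, P.Eig ρ (u i) (ψ i)) (hinj : Function.Injective ψ) :
    Fintype.card ι ≤ finrank ℂ (fixZ P ρ) := by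
  have hli : LinearIndependent ℂ u := eig_li
    (fun a => ρ (Sum.elim P.B (Sum.elim P.C (Sum.elim P.D P.E)) a)) u
    (fun i => Sum.elim (ψ i).β (Sum.elim (ψ i).γ (Sum.elim (ψ i).δ (ψ i).ε)))
    (fun i a => by
      rcases a with a | a | a | a
      exacts [(he i).Be a, (he i).Ce a, (he i).De a, (he i).Ee a])
    (fun i => (he i).ne) (fun i j e => hinj (Psi.ext
      (DFunLike.ext _ _ fun a => congrFun e (Sum.inl a))
      (DFunLike.ext _ _ fun a => congrFun e (Sum.inr (Sum.inl a)))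
      (DFunLike.ext _ _ fun a => congrFun e (Sum.inr (Sum.inr (Sum.inl a))))
      (DFunLike.ext _ _ fun a => congrFun e (Sum.inr (Sum.inr (Sum.inr a))))))
  rw [← finrank_span_eq_card hli]
  refine Submodule.finrank_mono (Submodule.span_le.2 ?_)
  rintro _ ⟨i, rfl⟩
  exact (he i).Zf

include h0

/-- Many vectors fixed by the centre. -/
theorem card_le_fixZ [Fintype σ.F] [DecidableEq σ.F] (hn : Function.Surjective σ.nm)
    (hZ : ∃ z, ρ (P.Z z) ≠ 1) :
    Fintype.card ((σ.Fˣ × K) ⊕ σ.Fˣ) ≤ finrank ℂ (fixZ P ρ) := by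
  obtain ⟨u0, ψ0, hu0, hε0⟩ := exists_eig h0 hZ
  have hI := mulShift_surjective (infl_ne_one h0 hε0)
  obtain ⟨s, hs⟩ := hI.2 ψ0.δ⁻¹
  set u := ρ (P.A s) u0 with hudef
  set ψ := ψ0.actA s with hψdef
  have hu : P.Eig ρ u ψ := hu0.actA s
  have hδ : ψ.δ = 1 := by
    rw [hψdef]
    show ψ0.δ * (infl σ ψ0.ε).mulShift s = 1
    rw [hs, mul_inv_cancel]
  have hε : ψ.ε ≠ 1 := hε0
  have hεinj := (mulShift_surjective hε).1
  let fam : σ.Fˣ × K → Psi σ := fun i => (ψ.actA i.2).scal i.1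
  have famε : ∀ i, (fam i).ε = ψ.ε.mulShift ((i.1 : σ.F)⁻¹) := fun i => (Psi.scal_eq _ _).2.2.2
  have famδ : ∀ i, (fam i).δ = ((infl σ ψ.ε).mulShift i.2).mulShift (((i.1 : σ.F) : K)⁻¹) := by
    intro i
    rw [(Psi.scal_eq _ _).2.2.1]
    show (ψ.δ * _).mulShift _ = _
    rw [hδ, one_mul]
  have finj : Function.Injective fam := by
    intro i j e
    have e1 : i.1 = j.1 :=
      Units.ext (inv_injective (hεinj (by rw [← famε, ← famε, e])))
    have e2 : (fam i).δ = (fam j).δ := by rw [e]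
    rw [famδ, famδ, ← e1] at e2
    refine Prod.ext e1 ((mulShift_surjective (infl_ne_one h0 hε)).1 (mulShift_cancel ?_ e2))
    exact inv_ne_zero fun h => i.1.ne_zero (Subtype.ext h)
  suffices h : ∃ v φ', P.Eig ρ v φ' ∧ Function.Injective φ'.scal ∧
      ∀ i m, fam i ≠ φ'.scal m by
    obtain ⟨v, φ', hv, hinj, hne⟩ := h
    refine card_le_of_eig (P := P) (ρ := ρ)
      (Sum.elim (fun i => ρ (P.H (iu σ i.1) (i.1 ^ 2)) (ρ (P.A i.2) u))
        (fun m => ρ (P.H (iu σ m) (m ^ 2)) v))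
      (Sum.elim fam φ'.scal) (fun i => ?_) (finj.sumElim hinj hne)
    rcases i with i | i
    · exact (hu.actA i.2).actH _ _
    · exact hv.actH _ _
  by_cases hA : ∃ x : Kˣ, σ.nm x = 1 ∧ ψ.γ.mulShift (((x : K) ^ 2)⁻¹) ≠ ψ.γ
  · obtain ⟨x, hx, hγ⟩ := hA
    refine ⟨_, _, hu.actH x 1, ?_, ?_⟩
    · intro m m' e
      have e' := congrArg Psi.ε e
      rw [(Psi.scal_eq _ _).2.2.2, (Psi.scal_eq _ _).2.2.2] at e'
      simp only [Psi.actH, hx, Units.val_one, div_one, AddChar.mulShift_one] at e'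
      exact Units.ext (inv_injective (hεinj e'))
    · rintro ⟨l, t⟩ m e
      have eε := congrArg Psi.ε e
      rw [famε, (Psi.scal_eq _ _).2.2.2] at eε
      simp only [Psi.actH, hx, Units.val_one, div_one, AddChar.mulShift_one] at eε
      obtain rfl : l = m := Units.ext (inv_injective (hεinj eε))
      have hl : ((l : σ.F) : K)⁻¹ ≠ 0 := inv_ne_zero fun h => l.ne_zero (Subtype.ext h)
      have eδ := congrArg Psi.δ e
      rw [famδ, (Psi.scal_eq _ _).2.2.1] at eδ
      have ht : t = 0 := by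
        refine (mulShift_surjective (infl_ne_one h0 hε)).1 ((mulShift_cancel hl eδ).trans ?_)
        simp only [Psi.actH, hδ, AddChar.mulShift_zero]
        ext; simp [AddChar.mulShift_apply]
      have eγ := congrArg Psi.γ e
      rw [show (fam (l, t)).γ = _ from (Psi.scal_eq _ _).2.1, (Psi.scal_eq _ _).2.1] at eγ
      refine hγ ?_
      have := mulShift_cancel hl eγ
      simp only [Psi.actA, Psi.actH, hx, hδ, ht, Units.val_one, OneMemClass.coe_one, mul_one,
        one_div] at this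
      rw [← this]
      ext c
      simp [Cyc3.sh, AddChar.mulShift_apply]
  · push Not at hA
    obtain ⟨x, hx, hx2⟩ := Cyc3.exists_norm_one h0
    have hγ : ψ.γ = 1 := by
      ext c
      have hne : ((x : K) ^ 2)⁻¹ - 1 ≠ 0 := sub_ne_zero.2 fun h => hx2 (inv_eq_one.1 h)
      have e := DFunLike.congr_fun (hA x hx) (c / (((x : K) ^ 2)⁻¹ - 1))
      rw [AddChar.mulShift_apply] at e
      set d := c / (((x : K) ^ 2)⁻¹ - 1) with hd
      have e2 : c = ((x : K) ^ 2)⁻¹ * d - d := by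
        rw [hd, ← sub_one_mul, mul_div_cancel₀ _ hne]
      rw [e2, AddChar.map_sub_eq_div, e, div_self (AddChar.val_isUnit ψ.γ _).ne_zero,
        AddChar.one_apply]
    obtain ⟨r, hr⟩ := (mulShift_surjective hε).2 ψ.β
    obtain ⟨t, ht⟩ := hn (-r)
    have hβ : (ψ.actA t).β = 1 := by
      show ψ.β * _ * _ * ψ.ε.mulShift (σ.nm t) = 1
      rw [hγ, hδ, ← hr, ht]
      ext b
      simp [res_apply, AddChar.mulShift_apply, ← AddChar.map_add_eq_mul]
    have hε' : ((ψ.actA t).actW).ε = 1 := by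
      show ((ψ.actA t).β).mulShift (-1) = 1
      rw [hβ]
      ext; simp [AddChar.mulShift_apply]
    refine ⟨_, _, (hu.actA t).actW, ?_, ?_⟩
    · intro m m' e
      have e' := congrArg Psi.β e
      rw [(Psi.scal_eq _ _).1, (Psi.scal_eq _ _).1] at e'
      exact Units.ext (inv_injective ((mulShift_surjective (ψ := ψ.ε) hε).1 e'))
    · rintro i m e
      have e' := congrArg Psi.ε e
      rw [famε, (Psi.scal_eq _ _).2.2.2, hε'] at e'
      refine inv_ne_zero i.1.ne_zero (hεinj (e'.trans ?_))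
      ext; simp [AddChar.mulShift_apply]

/-- The lower bound. -/
theorem degree_ge (hn : Function.Surjective σ.nm) {q : ℕ} (hF : Nat.card σ.F = q)
    (hK : Nat.card K = q ^ 3) (hZ : ∃ z, ρ (P.Z z) ≠ 1) :
    (q - 1) * (q * q ^ 3) + ((q - 1) * q ^ 3 + (q - 1)) ≤ finrank ℂ V := by
  classical
  letI : Fintype σ.F := Fintype.ofFinite _
  obtain ⟨v, hli, hdisj, -⟩ := exists_part_one h0 hZ
  have h2 := card_le_fixZ h0 hn hZ
  have h3 := Submodule.finrank_add_finrank_le_of_disjoint hdisj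
  rw [finrank_span_eq_card hli] at h3
  rw [← Nat.card_eq_fintype_card] at h2 h3
  simp only [Nat.card_prod, Nat.card_sum, Nat.card_units, hF, hK] at h2 h3
  omega

end Cfsg.Agent.H38.D4Deg
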