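import Cfsg.Agent.H38.D4Deg.Rules

/-!
The root elements of `³D₄(q)` in the unipotent radical of the Heisenberg parabolic, in every
characteristic: relations, action of the torus and of the Weyl representatives.
-/
set_option autoImplicit false
set_option maxRecDepth 100000

namespace Cfsg.Agent.H38.D4Deg

open Cfsg.Lie Cfsg.Agent.H37 Cfsg.Agent.H37.RootSys Cfsg.Agent.H37.Twist
  Cfsg.Agent.H37.Twist.D4

variable {K : Type*} [Field K] (φ : K →+* K)

/-- Short root element of `a`. -/
def xA (t : K) : ↥(chevD4.group K) := xe 18 t * (xe 13 (φ t) * xe 12 (φ (φ t)))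
/-- Long root element of `b`. -/
def xB (t : K) : ↥(chevD4.group K) := xe 14 t
/-- Short root element of `a + b`. -/
def xC (t : K) : ↥(chevD4.group K) := xe 19 t * (xe 16 (-φ t) * xe 15 (-φ (φ t)))
/-- Short root element of `2a + b`. -/
def xD (t : K) : ↥(chevD4.group K) := xe 17 t * (xe 20 (-φ t) * xe 21 (-φ (φ t)))
/-- Long root element of `3a + b`. -/
def xE (t : K) : ↥(chevD4.group K) := xe 22 t
/-- Long root element of `3a + 2b`. -/
def xZ (t : K) : ↥(chevD4.group K) := xe 23 t

theorem B_add (s t : K) : (xB (s + t) : ↥(chevD4.group K)) = xB s * xB t :=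
  (xe_add (by decide) s t).symm

theorem E_add (s t : K) : (xE (s + t) : ↥(chevD4.group K)) = xE s * xE t :=
  (xe_add (by decide) s t).symm

theorem Z_add (s t : K) : (xZ (s + t) : ↥(chevD4.group K)) = xZ s * xZ t :=
  (xe_add (by decide) s t).symm

theorem C_add (s t : K) : xC φ (s + t) = xC φ s * xC φ t := by
  simp only [xC, map_add, neg_add, mul_assoc, rules, sums]

theorem D_add (s t : K) : xD φ (s + t) = xD φ s * xD φ t := by
  simp only [xD, map_add, neg_add, mul_assoc, rules, sums]

theorem Z_A (f t : K) : xZ f * xA φ t = xA φ t * xZ f := by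
  simp only [xA, xZ, mul_assoc, rules]

theorem E_A (e t : K) : xE e * xA φ t = xA φ t * xE e := by
  simp only [xA, xE, mul_assoc, rules]

theorem Z_B (f u : K) : xZ f * xB u = xB u * xZ f := by simp only [xB, xZ, rules]

theorem Z_C (f t : K) : xZ f * xC φ t = xC φ t * xZ f := by
  simp only [xC, xZ, mul_assoc, rules]

theorem Z_D (f t : K) : xZ f * xD φ t = xD φ t * xZ f := by
  simp only [xD, xZ, mul_assoc, rules]

theorem Z_E (f t : K) : xZ f * xE t = xE t * xZ f := by simp only [xE, xZ, rules]

theorem E_C (e t : K) : xE e * xC φ t = xC φ t * xE e := by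
  simp only [xC, xE, mul_assoc, rules]

theorem E_D (e t : K) : xE e * xD φ t = xD φ t * xE e := by
  simp only [xD, xE, mul_assoc, rules]

theorem C_B (c u : K) : xC φ c * xB u = xB u * xC φ c := by
  simp only [xC, xB, mul_assoc, rules]

theorem D_B (d u : K) : xD φ d * xB u = xB u * xD φ d := by
  simp only [xD, xB, mul_assoc, rules]

theorem E_B (e u : K) : xE e * xB u = xB u * xE e * xZ (-(u * e)) := by
  simp only [xE, xB, xZ, mul_assoc, rules]

theorem D_C (d c : K) :
    xD φ d * xC φ c = xC φ c * xD φ d * xZ (c * d + φ (c * d) + φ (φ (c * d))) := by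
  simp only [xD, xC, xZ, map_mul, mul_assoc, rules, sums]
  repeat' first
    | with_reducible rfl
    | refine congrArg₂ (· * ·) (congrArg (xe _) ?_) ?_
    | refine congrArg (xe _) ?_
    | ring1

theorem D_A (d t : K) :
    xD φ d * xA φ t = xA φ t * (xD φ d * xE (t * d + φ (t * d) + φ (φ (t * d)))) := by
  simp only [xD, xA, xE, map_mul, mul_assoc, rules, sums]
  repeat' first
    | with_reducible rfl
    | refine congrArg₂ (· * ·) (congrArg (xe _) ?_) ?_
    | refine congrArg (xe _) ?_
    | ring1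

variable {φ} (h3 : ∀ t, φ (φ (φ t)) = t)

include h3

theorem C_A (c t : K) : xC φ c * xA φ t = xA φ t * (xC φ c *
    xD φ (φ c * φ (φ t) + φ (φ c) * φ t) *
      xE (φ t * φ (φ t) * c + φ (φ t * φ (φ t) * c) + φ (φ (φ t * φ (φ t) * c))) *
      xZ (t * φ c * φ (φ c) + φ (t * φ c * φ (φ c)) + φ (φ (t * φ c * φ (φ c))))) := by
  simp only [xD, xC, xA, xE, xZ, map_add, map_mul, h3, mul_assoc, rules, sums]
  repeat' first
    | with_reducible rfl
    | refine congrArg₂ (· * ·) (congrArg (xe _) ?_) ?_
    | refine congrArg (xe _) ?_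
    | ring1

theorem B_A (u t : K) (hu : φ u = u) : xB u * xA φ t = xA φ t * (xB u * xC φ (t * u) *
    xD φ (φ t * φ (φ t) * u) * xE (t * φ t * φ (φ t) * u) *
      xZ (t * φ t * φ (φ t) * u ^ 2)) := by
  simp only [xD, xC, xA, xB, xE, xZ, map_mul, hu, h3, mul_assoc, rules, sums]
  repeat' first
    | with_reducible rfl
    | refine congrArg₂ (· * ·) (congrArg (xe _) ?_) ?_
    | refine congrArg (xe _) ?_
    | ring1

end Cfsg.Agent.H38.D4Deg
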