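import Cfsg.Agent.H38.D4Deg.Linear

/-!
Abstract data of the Heisenberg parabolic of `³D₄(q)`, and the translates of joint eigenvectors of
its unipotent radical.
-/
set_option autoImplicit false

namespace Cfsg.Agent.H38.D4Deg

variable {K : Type*} [Field K]

/-- A ring endomorphism of order dividing three. -/
structure Cyc3 (K : Type*) [Field K] where
  /-- The map. -/
  φ : K →+* K
  h3 : ∀ t, φ (φ (φ t)) = t

variable (σ : Cyc3 K)

/-- The fixed field. -/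
abbrev Cyc3.F : Subfield K := RingHom.eqLocusField σ.φ (RingHom.id K)

theorem Cyc3.fix (a : σ.F) : σ.φ (a : K) = a := a.2

/-- The trace to the fixed field. -/
def Cyc3.tr : K →+ σ.F :=
  AddMonoidHom.mk' (fun t => ⟨t + σ.φ t + σ.φ (σ.φ t), by
      show σ.φ (t + σ.φ t + σ.φ (σ.φ t)) = t + σ.φ t + σ.φ (σ.φ t)
      rw [map_add, map_add, σ.h3]; ring⟩)
    (fun s t => Subtype.ext (by simp only [map_add]; push_cast; ring))

theorem Cyc3.coe_tr (t : K) : (σ.tr t : K) = t + σ.φ t + σ.φ (σ.φ t) := rfl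

/-- The norm to the fixed field. -/
def Cyc3.nm : K →* σ.F where
  toFun t := ⟨t * σ.φ t * σ.φ (σ.φ t), by
      show σ.φ (t * σ.φ t * σ.φ (σ.φ t)) = t * σ.φ t * σ.φ (σ.φ t)
      rw [map_mul, map_mul, σ.h3]; ring⟩
  map_one' := Subtype.ext (by simp)
  map_mul' s t := Subtype.ext (by simp only [map_mul]; push_cast; ring)

theorem Cyc3.coe_nm (t : K) : (σ.nm t : K) = t * σ.φ t * σ.φ (σ.φ t) := rfl

theorem Cyc3.tr_smul (l : σ.F) (t : K) : σ.tr ((l : K) * t) = l * σ.tr t :=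
  Subtype.ext (by
    simp only [Cyc3.coe_tr, Subfield.coe_mul, map_mul, σ.fix]; ring)

theorem Cyc3.nm_coe (l : σ.F) : σ.nm (l : K) = l ^ 3 :=
  Subtype.ext (by simp only [Cyc3.coe_nm, σ.fix, SubmonoidClass.coe_pow]; ring)

theorem Cyc3.nm_zero : σ.nm 0 = 0 := Subtype.ext (by simp [Cyc3.coe_nm])

theorem Cyc3.nm_ne_zero {t : K} (ht : t ≠ 0) : σ.nm t ≠ 0 := fun e => by
  have h : t * σ.φ t * σ.φ (σ.φ t) = 0 := congrArg Subtype.val e
  rcases mul_eq_zero.1 h with h | h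
  · exact mul_ne_zero ht ((map_ne_zero σ.φ).2 ht) h
  · exact (map_ne_zero σ.φ).2 ((map_ne_zero σ.φ).2 ht) h

/-- `s ↦ φt φφs + φφt φs`. -/
def Cyc3.cross (t : K) : K →+ K :=
  AddMonoidHom.mk' (fun s => σ.φ s * σ.φ (σ.φ t) + σ.φ (σ.φ s) * σ.φ t)
    (fun a b => by simp only [map_add]; ring)

theorem Cyc3.cross_apply (t s : K) :
    σ.cross t s = σ.φ s * σ.φ (σ.φ t) + σ.φ (σ.φ s) * σ.φ t := rfl

/-- `φt φφt`. -/
def Cyc3.sh (t : K) : K := σ.φ t * σ.φ (σ.φ t)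

/-- Root elements, torus elements and Weyl representatives with their relations. -/
structure Frame (G : Type*) [Group G] where
  A : K → G
  B : σ.F → G
  C : K → G
  D : K → G
  E : σ.F → G
  Z : σ.F → G
  H : Kˣ → σ.Fˣ → G
  w : G
  wb : G
  B_add : ∀ a b, B (a + b) = B a * B b
  C_add : ∀ a b, C (a + b) = C a * C b
  D_add : ∀ a b, D (a + b) = D a * D b
  E_add : ∀ a b, E (a + b) = E a * E b
  Z_add : ∀ a b, Z (a + b) = Z a * Z b
  C_B : ∀ c b, C c * B b = B b * C c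
  D_B : ∀ d b, D d * B b = B b * D d
  E_C : ∀ e c, E e * C c = C c * E e
  E_D : ∀ e d, E e * D d = D d * E e
  Z_A : ∀ z t, Z z * A t = A t * Z z
  Z_B : ∀ z b, Z z * B b = B b * Z z
  Z_C : ∀ z c, Z z * C c = C c * Z z
  Z_D : ∀ z d, Z z * D d = D d * Z z
  Z_E : ∀ z e, Z z * E e = E e * Z z
  E_B : ∀ e b, E e * B b = B b * E e * Z (-(b * e))
  D_C : ∀ d c, D d * C c = C c * D d * Z (σ.tr (c * d))
  E_A : ∀ e t, E e * A t = A t * E e
  D_A : ∀ d t, D d * A t = A t * (D d * E (σ.tr (t * d)))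
  C_A : ∀ c t, ∃ z, C c * A t =
    A t * (C c * D (σ.cross t c) * E (σ.tr (σ.sh t * c)) * Z z)
  B_A : ∀ b t, ∃ z, B b * A t =
    A t * (B b * C (t * b) * D (σ.sh t * b) * E (σ.nm t * b) * Z z)
  B_H : ∀ (x : Kˣ) (y : σ.Fˣ) b, B b * H x y = H x y * B (σ.nm x / (y : σ.F) ^ 2 * b)
  C_H : ∀ (x : Kˣ) (y : σ.Fˣ) c, C c * H x y =
    H x y * C ((σ.nm x : K) / ((x : K) ^ 2 * ((y : σ.F) : K)) * c)
  D_H : ∀ (x : Kˣ) (y : σ.Fˣ) d, D d * H x y = H x y * D ((x : K) ^ 2 / (σ.nm x : K) * d)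
  E_H : ∀ (x : Kˣ) (y : σ.Fˣ) e, E e * H x y = H x y * E ((y : σ.F) / σ.nm x * e)
  Z_H : ∀ (x : Kˣ) (y : σ.Fˣ) z, Z z * H x y = H x y * Z ((y : σ.F)⁻¹ * z)
  B_w : ∀ b, B b * w = w * E b
  C_w : ∀ c, C c * w = w * D (-c)
  D_w : ∀ d, D d * w = w * C d
  E_w : ∀ e, E e * w = w * B (-e)
  Z_w : ∀ z, Z z * w = w * Z z
  Z_wb : ∀ z, Z z * wb = wb * E z

variable {σ}

/-- A character of the unipotent radical trivial on its centre. -/
@[ext]
structure Psi (σ : Cyc3 K) where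
  β : AddChar σ.F ℂ
  γ : AddChar K ℂ
  δ : AddChar K ℂ
  ε : AddChar σ.F ℂ

/-- Restriction of a character to the fixed field. -/
def res (σ : Cyc3 K) (χ : AddChar K ℂ) : AddChar σ.F ℂ :=
  χ.compAddMonoidHom σ.F.subtype.toAddMonoidHom

theorem res_apply (χ : AddChar K ℂ) (a : σ.F) : res σ χ a = χ a := rfl

/-- Inflation along the trace. -/
def infl (σ : Cyc3 K) (ε : AddChar σ.F ℂ) : AddChar K ℂ := ε.compAddMonoidHom σ.tr

theorem infl_apply (ε : AddChar σ.F ℂ) (t : K) : infl σ ε t = ε (σ.tr t) := rfl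

theorem infl_one : infl σ (1 : AddChar σ.F ℂ) = 1 := by ext; rfl

/-- The effect of `A t`. -/
def Psi.actA (ψ : Psi σ) (t : K) : Psi σ where
  β := ψ.β * res σ (ψ.γ.mulShift t) * res σ (ψ.δ.mulShift (σ.sh t)) * ψ.ε.mulShift (σ.nm t)
  γ := ψ.γ * ψ.δ.compAddMonoidHom (σ.cross t) * (infl σ ψ.ε).mulShift (σ.sh t)
  δ := ψ.δ * (infl σ ψ.ε).mulShift t
  ε := ψ.ε

/-- The effect of `w`. -/
def Psi.actW (ψ : Psi σ) : Psi σ where
  β := ψ.ε
  γ := ψ.δ.mulShift (-1)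
  δ := ψ.γ
  ε := ψ.β.mulShift (-1)

/-- The effect of `H x y`. -/
def Psi.actH (ψ : Psi σ) (x : Kˣ) (y : σ.Fˣ) : Psi σ where
  β := ψ.β.mulShift (σ.nm x / (y : σ.F) ^ 2)
  γ := ψ.γ.mulShift ((σ.nm x : K) / ((x : K) ^ 2 * ((y : σ.F) : K)))
  δ := ψ.δ.mulShift ((x : K) ^ 2 / (σ.nm x : K))
  ε := ψ.ε.mulShift ((y : σ.F) / σ.nm x)

namespace Frame

variable {G : Type*} [Group G] (P : Frame σ G) {V : Type*} [AddCommGroup V] [Module ℂ V]
  (ρ : Representation ℂ G V)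

/-- A joint eigenvector fixed by the centre. -/
structure Eig (u : V) (ψ : Psi σ) : Prop where
  ne : u ≠ 0
  Zf : ∀ z, ρ (P.Z z) u = u
  Be : ∀ b, ρ (P.B b) u = ψ.β b • u
  Ce : ∀ c, ρ (P.C c) u = ψ.γ c • u
  De : ∀ d, ρ (P.D d) u = ψ.δ d • u
  Ee : ∀ e, ρ (P.E e) u = ψ.ε e • u

theorem move (g h : G) (k : G) (u : V) (e : h * g = g * k) :
    ρ h (ρ g u) = ρ g (ρ k u) := by
  rw [← Module.End.mul_apply, ← map_mul, e, map_mul, Module.End.mul_apply]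

theorem ne_zero_move (g : G) {u : V} (hu : u ≠ 0) : ρ g u ≠ 0 := fun e => hu (by
  have := congrArg (ρ g⁻¹) e
  rwa [← Module.End.mul_apply, ← map_mul, inv_mul_cancel, map_one, Module.End.one_apply,
    map_zero] at this)

variable {P} {ρ}

theorem Eig.actA {u : V} {ψ : Psi σ} (h : P.Eig ρ u ψ) (t : K) :
    P.Eig ρ (ρ (P.A t) u) (ψ.actA t) where
  ne := ne_zero_move ρ _ h.ne
  Zf z := by rw [move ρ _ _ _ u (P.Z_A z t), h.Zf]
  Ee e := by rw [move ρ _ _ _ u (P.E_A e t), h.Ee, map_smul]; rfl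
  De d := by
    rw [move ρ _ _ _ u (P.D_A d t), map_mul, Module.End.mul_apply, h.Ee, map_smul, h.De,
      smul_smul, map_smul, mul_comm (ψ.ε _)]
    simp [Psi.actA, infl_apply, AddChar.mulShift_apply]
  Ce c := by
    obtain ⟨z, hz⟩ := P.C_A c t
    rw [move ρ _ _ _ u hz]
    simp only [map_mul, Module.End.mul_apply, h.Zf, h.Ee, h.De, h.Ce, map_smul, smul_smul]
    congr 1
    simp [Psi.actA, infl_apply, AddChar.mulShift_apply]
    ring
  Be b := by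
    obtain ⟨z, hz⟩ := P.B_A b t
    rw [move ρ _ _ _ u hz]
    simp only [map_mul, Module.End.mul_apply, h.Zf, h.Ee, h.De, h.Ce, h.Be, map_smul, smul_smul]
    congr 1
    simp [Psi.actA, res_apply, AddChar.mulShift_apply]
    ring

theorem Eig.actW {u : V} {ψ : Psi σ} (h : P.Eig ρ u ψ) : P.Eig ρ (ρ P.w u) ψ.actW where
  ne := ne_zero_move ρ _ h.ne
  Zf z := by rw [move ρ _ _ _ u (P.Z_w z), h.Zf]
  Be b := by rw [move ρ _ _ _ u (P.B_w b), h.Ee, map_smul]; rfl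
  Ce c := by
    rw [move ρ _ _ _ u (P.C_w c), h.De, map_smul]
    simp [Psi.actW, AddChar.mulShift_apply]
  De d := by rw [move ρ _ _ _ u (P.D_w d), h.Ce, map_smul]; rfl
  Ee e := by
    rw [move ρ _ _ _ u (P.E_w e), h.Be, map_smul]
    simp [Psi.actW, AddChar.mulShift_apply]

theorem Eig.actH {u : V} {ψ : Psi σ} (h : P.Eig ρ u ψ) (x : Kˣ) (y : σ.Fˣ) :
    P.Eig ρ (ρ (P.H x y) u) (ψ.actH x y) where
  ne := ne_zero_move ρ _ h.ne
  Zf z := by rw [move ρ _ _ _ u (P.Z_H x y z), h.Zf]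
  Be b := by rw [move ρ _ _ _ u (P.B_H x y b), h.Be, map_smul]; rfl
  Ce c := by rw [move ρ _ _ _ u (P.C_H x y c), h.Ce, map_smul]; rfl
  De d := by rw [move ρ _ _ _ u (P.D_H x y d), h.De, map_smul]; rfl
  Ee e := by rw [move ρ _ _ _ u (P.E_H x y e), h.Ee, map_smul]; rfl

end Frame

end Cfsg.Agent.H38.D4Deg
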