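import Cfsg.Agent.H64.Ree.RepBound

/-!
Eigenvectors of commuting families in a representation of a finite group, and their independence.
-/
set_option autoImplicit false

namespace Cfsg.Agent.H38.D4Deg

open Module

variable {V : Type*} [AddCommGroup V] [Module ℂ V]

/-- Joint eigenvectors with different eigenvalue systems are independent. -/
theorem eig_li {Q ι : Type*} (f : Q → Module.End ℂ V) (u : ι → V) (c : ι → Q → ℂ)
    (hu : ∀ i a, f a (u i) = c i a • u i) (hne : ∀ i, u i ≠ 0) (hinj : Function.Injective c) :
    LinearIndependent ℂ u := by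
  classical
  rw [linearIndependent_iff']
  intro s
  induction s using Finset.induction_on with
  | empty => intro g _ i hi; simp at hi
  | @insert i0 s hi0 ih =>
    intro g hg
    have hs : ∀ i ∈ s, g i = 0 := by
      intro i hi
      have hne' : c i ≠ c i0 := fun e => hi0 (hinj e ▸ hi)
      obtain ⟨a, ha⟩ := Function.ne_iff.1 hne'
      have e1 : ∑ j ∈ insert i0 s, (g j * (c j a - c i0 a)) • u j = 0 := by
        have h := congrArg (f a) hg
        rw [map_sum, map_zero] at h
        simp only [map_smul, hu] at h
        have h' := congrArg (c i0 a • ·) hg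
        simp only [Finset.smul_sum, smul_zero] at h'
        simp only [mul_sub, sub_smul, Finset.sum_sub_distrib]
        rw [show (∑ j ∈ insert i0 s, (g j * c j a) • u j) = 0 by simpa [smul_smul] using h,
          show (∑ j ∈ insert i0 s, (g j * c i0 a) • u j) = 0 by
            simpa [smul_smul, mul_comm] using h', sub_zero]
      rw [Finset.sum_insert hi0, sub_self, mul_zero, zero_smul, zero_add] at e1
      exact (mul_eq_zero.1 (ih _ e1 i hi)).resolve_right (sub_ne_zero.2 ha)
    intro i hi
    rcases Finset.mem_insert.1 hi with rfl | hi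
    · rw [Finset.sum_insert hi0, Finset.sum_eq_zero fun j hj => by rw [hs j hj, zero_smul],
        add_zero] at hg
      exact (smul_eq_zero.1 hg).resolve_right (hne _)
    · exact hs i hi

variable {G : Type*} [Group G] [Finite G] [FiniteDimensional ℂ V] (ρ : Representation ℂ G V)

/-- A commuting family moving a vector of an invariant subspace has a common eigenvector there
that it moves too. -/
theorem exists_eig_moved {Q : Type*} (X : Q → G) (W : Submodule ℂ V)
    (hinv : ∀ a, ∀ w ∈ W, ρ (X a) w ∈ W)
    (hcomm : ∀ a b, ∀ w ∈ W, ρ (X a) (ρ (X b) w) = ρ (X b) (ρ (X a) w))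
    {a0 : Q} {w0 : V} (hw0 : w0 ∈ W) (hmv : ρ (X a0) w0 ≠ w0) :
    ∃ u ∈ W, u ≠ 0 ∧ (∀ a, ∃ c : ℂ, ρ (X a) u = c • u) ∧ ρ (X a0) u ≠ u := by
  let f : Q → Module.End ℂ ↥W := fun a => (ρ (X a)).restrict (hinv a)
  have hf : ∀ a b, Commute (f a) (f b) := fun a b =>
    LinearMap.ext fun w => Subtype.ext (hcomm a b w w.2)
  let R : Submodule ℂ ↥W := LinearMap.range (f a0 - 1)
  have hR : R ≠ ⊥ := by
    rw [Ne, LinearMap.range_eq_bot, sub_eq_zero]
    exact fun e => hmv (congrArg Subtype.val (LinearMap.congr_fun e ⟨w0, hw0⟩))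
  obtain ⟨u, hu, hu0, huc⟩ := H64.Ree.exists_common_eigenvector f hf (finrank ℂ R) R le_rfl hR
    (fun a w hw => by
      obtain ⟨x, rfl⟩ := hw
      exact ⟨f a x, by
        rw [← Module.End.mul_apply, ← Module.End.mul_apply,
          ((hf a a0).sub_right (Commute.one_right _)).eq]⟩)
  refine ⟨u, u.2, fun e => hu0 (Subtype.ext e), fun a => ?_, fun e => ?_⟩
  · obtain ⟨c, hc⟩ := huc a
    exact ⟨c, congrArg Subtype.val hc⟩
  · obtain ⟨x, hx⟩ := hu
    have hx' : ρ (X a0) (x : V) = x + u := by
      have := congrArg Subtype.val hx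
      simp only [LinearMap.sub_apply, Module.End.one_apply, AddSubgroupClass.coe_sub] at this
      rw [← this, show ((f a0 x : ↥W) : V) = ρ (X a0) (x : V) from rfl]
      abel
    have hpow : ∀ n : ℕ, ρ (X a0 ^ n) (x : V) = x + (n : ℂ) • (u : V) := by
      intro n
      induction n with
      | zero => simp
      | succ n ih =>
        rw [pow_succ', map_mul, Module.End.mul_apply, ih, map_add, map_smul, hx', e, Nat.cast_succ,
          add_smul, one_smul]
        abel
    have h := hpow (Nat.card G)
    rw [pow_card_eq_one', map_one, Module.End.one_apply] at h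
    have h2 : (Nat.card G : ℂ) • (u : V) = 0 := left_eq_add.1 h
    rcases smul_eq_zero.1 h2 with h | h
    · exact (Nat.card_pos (α := G)).ne' (by exact_mod_cast h)
    · exact hu0 (Subtype.ext h)

/-- The eigenvalues of an additively parametrised subgroup form a character. -/
theorem exists_addChar {M : Type*} [AddGroup M] (X : M → G)
    (hX : ∀ s t, X (s + t) = X s * X t) {u : V} (hu : u ≠ 0)
    (h : ∀ s, ∃ c : ℂ, ρ (X s) u = c • u) :
    ∃ χ : AddChar M ℂ, ∀ s, ρ (X s) u = χ s • u := by
  choose c hc using h
  have hcancel : ∀ {a b : ℂ}, a • u = b • u → a = b := fun e => smul_left_injective ℂ hu e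
  have hX0 : X 0 = 1 := by
    have e := hX 0 0
    rw [add_zero] at e
    exact left_eq_mul.1 e
  exact ⟨{ toFun := c
           map_zero_eq_one' := hcancel (by rw [← hc, hX0, map_one, one_smul]; rfl)
           map_add_eq_mul' := fun s t => hcancel (by
            rw [← hc, hX, map_mul, Module.End.mul_apply, hc t, map_smul, hc s, smul_smul,
              mul_comm]) }, hc⟩

end Cfsg.Agent.H38.D4Deg
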