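import Cfsg.Agent.H38.D4Deg.Act
import Cfsg.Agent.H38.D4Deg.Bound
import Cfsg.Agent.CharBasic.Integral

/-!
The smallest degree of a non-linear irreducible representation of `³D₄(q)` is at least
`q (q⁴ - q² + 1)`.
-/
set_option autoImplicit false

namespace Cfsg.Agent.H38.D4Deg

open Cfsg.Lie Cfsg.Agent.H37 Cfsg.Agent.H37.RootSys Cfsg.Agent.H37.Twist
  Cfsg.Agent.H37.Twist.D4 Module

variable {K : Type*} [Field K] [Fintype K] {φ : K →+* K} {q : ℕ}
  (hφ : ∀ t, φ t = t ^ q) (hK : Fintype.card K = q ^ 3)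

/-- The map with its order. -/
def cyc : Cyc3 K := ⟨φ, fun t => by rw [hφ, hφ, hφ, pow_three_card hK]⟩

omit [Fintype K] in
theorem xe_eq_one {r : ℕ} (hr : r < 24) {t : K} (h : xe r t = 1) : t = 0 := by
  refine xG_inj (QD K) hr ?_
  rw [show xG (QD K).K K r t = 1 from h]
  exact (xe_zero hr).symm

omit [Fintype K] in
theorem lift {a b : ↥(twistedD4 K q)} {a' b' : ↥(chevD4.group K)} (h : a' = b')
    (ha : (a : GL chevD4.Idx K) = (a' : GL chevD4.Idx K))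
    (hb : (b : GL chevD4.Idx K) = (b' : GL chevD4.Idx K)) : a = b :=
  Subtype.ext (by rw [ha, hb, h])

/-- The parabolic of `³D₄(q)`. -/
noncomputable def frame : Frame (cyc hφ hK) ↥(twistedD4 K q) where
  A t := ⟨_, mem_A hφ hK t⟩
  B b := ⟨_, mem_B hφ hK b.2⟩
  C c := ⟨_, mem_C (cyc hφ hK).h3 hφ hK c⟩
  D d := ⟨_, mem_D (cyc hφ hK).h3 hφ hK d⟩
  E e := ⟨_, mem_E hφ hK e.2⟩
  Z z := ⟨_, mem_Z hφ hK z.2⟩
  H x y := ⟨_, mem_H hφ hK x (iu (cyc hφ hK) y) (y : (cyc hφ hK).F).2⟩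
  w := ⟨_, mem_wA hφ hK⟩
  wb := ⟨_, mem_wB hφ⟩
  B_add a b := lift ((B_add (a : K) b)) rfl rfl
  C_add a b := lift ((C_add φ a b)) rfl rfl
  D_add a b := lift ((D_add φ a b)) rfl rfl
  E_add a b := lift ((E_add (a : K) b)) rfl rfl
  Z_add a b := lift ((Z_add (a : K) b)) rfl rfl
  C_B c b := lift ((C_B φ c (b : K))) rfl rfl
  D_B d b := lift ((D_B φ d (b : K))) rfl rfl
  E_C e c := lift ((E_C φ (e : K) c)) rfl rfl
  E_D e d := lift ((E_D φ (e : K) d)) rfl rfl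
  Z_A z t := lift ((Z_A φ (z : K) t)) rfl rfl
  Z_B z b := lift ((Z_B (z : K) b)) rfl rfl
  Z_C z c := lift ((Z_C φ (z : K) c)) rfl rfl
  Z_D z d := lift ((Z_D φ (z : K) d)) rfl rfl
  Z_E z e := lift ((Z_E (z : K) e)) rfl rfl
  E_B e b := lift ((E_B (e : K) b)) rfl rfl
  D_C d c := lift ((D_C φ d c)) rfl rfl
  E_A e t := lift ((E_A φ (e : K) t)) rfl rfl
  D_A d t := lift ((D_A φ d t)) rfl rfl
  C_A c t := ⟨(cyc hφ hK).tr (t * φ c * φ (φ c)),
    lift ((C_A (cyc hφ hK).h3 c t)) rfl rfl⟩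
  B_A b t := ⟨(cyc hφ hK).nm t * b ^ 2,
    lift (B_A (cyc hφ hK).h3 (b : K) t b.2) rfl
      (by simp only [Subgroup.coe_mul, Subfield.coe_mul, SubmonoidClass.coe_pow, Cyc3.coe_nm]; rfl)⟩
  B_H x y b := lift ((B_H φ x (iu (cyc hφ hK) y) (b : K))) rfl rfl
  C_H x y c := lift ((C_H (cyc hφ hK).h3 x (iu (cyc hφ hK) y) (y : (cyc hφ hK).F).2 c)) rfl rfl
  D_H x y d := lift ((D_H (cyc hφ hK).h3 x (iu (cyc hφ hK) y) d)) rfl rfl
  E_H x y e := lift ((E_H φ x (iu (cyc hφ hK) y) (e : K))) rfl rfl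
  Z_H x y z := lift ((Z_H φ x (iu (cyc hφ hK) y) (z : K))) rfl rfl
  B_w b := lift ((mul_inv_eq_iff_eq_mul.1 (wA_E (b : K))).symm) rfl rfl
  C_w c := lift ((show xC φ c * wA = wA * xD φ (-c) by
    rw [mul_inv_eq_iff_eq_mul.1 (wA_D φ (-c)), neg_neg])) rfl rfl
  D_w d := lift ((mul_inv_eq_iff_eq_mul.1 (wA_C φ d)).symm) rfl rfl
  E_w e := lift ((show xE (e : K) * wA = wA * xB (-(e : K)) by
    rw [mul_inv_eq_iff_eq_mul.1 (wA_B (-(e : K))), neg_neg])) rfl rfl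
  Z_w z := lift ((mul_inv_eq_iff_eq_mul.1 (wA_Z (z : K))).symm) rfl rfl
  Z_wb z := lift ((mul_inv_eq_iff_eq_mul.1 (wB_E (z : K))).symm) rfl rfl

theorem card_F : Nat.card (cyc hφ hK).F = q := by
  refine Eq.trans (Nat.card_congr (Equiv.subtypeEquivRight fun t => ?_))
    (card_pow_eq_self (two_le hK) (sub_dvd hK)).2
  show φ t = t ↔ t ^ q = t
  rw [hφ]

theorem exists_moved_point : ∃ t, (cyc hφ hK).φ t ≠ t := by
  by_contra h
  push Not at h
  have e := card_F hφ hK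
  have hall : Nat.card (cyc hφ hK).F = Nat.card K :=
    Nat.card_congr (Equiv.subtypeUnivEquiv fun t => h t)
  rw [Nat.card_eq_fintype_card (α := K), hK] at hall
  have h2 := two_le hK
  have := Nat.pow_lt_pow_right (show 1 < q by omega) (show 1 < 3 by omega)
  rw [pow_one] at this
  omega

theorem nm_surjective : Function.Surjective (cyc hφ hK).nm := by
  classical
  intro a
  rcases eq_or_ne a 0 with rfl | ha
  · exact ⟨0, Cyc3.nm_zero _⟩
  have h2 := two_le hK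
  set n := q ^ 2 + q + 1 with hn
  let f : Kˣ →* (cyc hφ hK).Fˣ := Units.map (cyc hφ hK).nm
  have hker : Nat.card f.ker ≤ n := by
    refine le_trans ?_ (IsCyclic.card_pow_eq_one_le (α := Kˣ) (Nat.succ_pos _))
    rw [Nat.card_eq_fintype_card, Fintype.card_subtype]
    refine Finset.card_le_card fun t ht => ?_
    simp only [Finset.mem_filter, Finset.mem_univ, true_and] at ht ⊢
    have e : (t : K) * φ t * φ (φ t) = 1 :=
      congrArg (fun u : (cyc hφ hK).Fˣ => ((u : (cyc hφ hK).F) : K)) ht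
    refine Units.ext ?_
    rw [Units.val_pow_eq_pow_val, Units.val_one, ← e, hφ, hφ]
    ring
  have hprod := Subgroup.card_mul_index f.ker
  rw [Subgroup.index_ker, Nat.card_units, Nat.card_eq_fintype_card (α := K), hK] at hprod
  have hle : Nat.card (cyc hφ hK).Fˣ ≤ Nat.card f.range := by
    rw [Nat.card_units, card_F hφ hK]
    by_contra hlt
    push Not at hlt
    have h1 : Nat.card f.ker * Nat.card f.range ≤ n * (q - 2) := Nat.mul_le_mul hker (by omega)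
    rw [hprod, hn] at h1
    obtain ⟨m, rfl⟩ : ∃ m, q = m + 2 := ⟨q - 2, by omega⟩
    rw [Nat.add_sub_cancel] at h1
    have : (m + 2) ^ 3 = ((m + 2) ^ 2 + (m + 2) + 1) * m +
        (((m + 2) ^ 2 + (m + 2) + 1) + 1) := by ring
    omega
  have htop : f.range = ⊤ := Subgroup.eq_top_of_le_card _ hle
  obtain ⟨t, ht⟩ := (MonoidHom.range_eq_top.1 htop) (Units.mk0 a ha)
  exact ⟨t, congrArg Units.val ht⟩

omit hK in
theorem not_dvd_order {q : ℕ} (hq : 2 ≤ q) :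
    ¬ ((q - 1) * (q * q ^ 3) + ((q - 1) * q ^ 3 + (q - 1)) ∣
      q ^ 12 * (q ^ 2 - 1) * (q ^ 6 - 1) * (q ^ 8 + q ^ 4 + 1)) := by
  intro h
  have hM : q ^ 4 + q ^ 3 + 1 ∣ q ^ 12 * (q ^ 2 - 1) * (q ^ 6 - 1) * (q ^ 8 + q ^ 4 + 1) :=
    (Dvd.intro_left (q - 1) (by ring)).trans h
  have e2 : 1 ≤ q ^ 2 := Nat.one_le_pow _ _ (by omega)
  have e6 : 1 ≤ q ^ 6 := Nat.one_le_pow _ _ (by omega)
  zify [e2, e6] at hM
  set x : ℤ := (q : ℤ) with hx
  set M := x ^ 4 + x ^ 3 + 1 with hMdef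
  have hx1 : IsCoprime M x := ⟨1, -(x ^ 3 + x ^ 2), by rw [hMdef]; ring⟩
  have hx2 : IsCoprime M (x + 1) := ⟨1, -x ^ 3, by rw [hMdef]; ring⟩
  -- `M = (x² + 2x + 1)(x² - x + 1) - x`
  have hs : IsCoprime M (x ^ 2 - x + 1) := by
    refine ⟨x - 1, 1 - (x - 1) * (x ^ 2 + 2 * x + 1), ?_⟩
    rw [hMdef]; ring
  have h12 : IsCoprime M (x ^ 4 - x ^ 2 + 1) := by
    have a1 : IsCoprime (x ^ 4 - x ^ 2 + 1) x := ⟨1, -(x ^ 3 - x), by ring⟩
    have a2 : IsCoprime (x ^ 4 - x ^ 2 + 1) (x + 1) :=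
      ⟨1, -(x ^ 3 - x ^ 2), by ring⟩
    have a3 := ((a1.pow_right (n := 2)).mul_right a2).add_mul_left_right 1
    have e : x ^ 2 * (x + 1) + (x ^ 4 - x ^ 2 + 1) * 1 = M := by rw [hMdef]; ring
    rw [e] at a3
    exact a3.symm
  have key : ∀ a b : ℤ, IsCoprime M a → M ∣ a * b → M ∣ b :=
    fun a b hc hd => hc.dvd_of_dvd_mul_left hd
  have key3 : ∀ a b u v : ℤ, u * M + v * a = 3 → M ∣ a * b → M ∣ 3 * b := by
    intro a b u v e hd
    rw [← e, add_mul, mul_assoc, mul_assoc]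
    exact dvd_add (dvd_mul_of_dvd_right (dvd_mul_right M b) u) (dvd_mul_of_dvd_right hd v)
  have ex : x ^ 12 * (x ^ 2 - 1) * (x ^ 6 - 1) * (x ^ 8 + x ^ 4 + 1) =
      x ^ 12 * ((x + 1) ^ 2 * ((x ^ 2 - x + 1) ^ 2 * ((x ^ 4 - x ^ 2 + 1) *
        ((x - 1) * ((x - 1) * ((x ^ 2 + x + 1) * ((x ^ 2 + x + 1) * 1))))))) := by ring
  rw [ex] at hM
  have g1 := key _ _ hx1.pow_right hM
  have g2 := key _ _ hx2.pow_right g1
  have g3 := key _ _ hs.pow_right g2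
  have g4 := key _ _ h12 g3
  have b1 : (1 : ℤ) * M + -(x ^ 3 + 2 * x ^ 2 + 2 * x + 2) * (x - 1) = 3 := by rw [hMdef]; ring
  have b3 : -(x - 1) * M + (1 + (x - 1) * (x ^ 2 - 1)) * (x ^ 2 + x + 1) = 3 := by
    rw [hMdef]; ring
  have g5 := key3 _ _ _ _ b1 g4
  rw [mul_left_comm] at g5
  have g6 := key3 _ _ _ _ b1 g5
  rw [show ∀ r : ℤ, (3 : ℤ) * (3 * ((x ^ 2 + x + 1) * r)) = (x ^ 2 + x + 1) * (9 * r) from
    fun r => by ring] at g6
  have g7 := key3 _ _ _ _ b3 g6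
  rw [show (3 : ℤ) * (9 * ((x ^ 2 + x + 1) * 1)) = (x ^ 2 + x + 1) * 27 by ring] at g7
  have g8 := key3 _ _ _ _ b3 g7
  have h81 : q ^ 4 + q ^ 3 + 1 ∣ 81 := by
    have : ((q ^ 4 + q ^ 3 + 1 : ℕ) : ℤ) ∣ ((81 : ℕ) : ℤ) := by push_cast; simpa using g8
    exact_mod_cast this
  have hle := Nat.le_of_dvd (by norm_num) h81
  have : q ≤ 2 := by
    by_contra hc
    have := Nat.pow_le_pow_left (show 3 ≤ q by omega) 4
    have := Nat.pow_le_pow_left (show 3 ≤ q by omega) 3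
    omega
  obtain rfl : q = 2 := by omega
  norm_num at h81

include hφ hK in
/-- The lower bound. -/
theorem degree_bound {k : ℕ} (ρ : Representation ℂ ↥(twistedD4 K q) (Fin k → ℂ))
    (hirr : ρ.IsIrreducible) (hk : 2 ≤ k) : q * (q ^ 4 - q ^ 2 + 1) ≤ k := by
  haveI := hirr
  obtain ⟨hsimple, -⟩ := D4.simple hφ hK
  have hfr : finrank ℂ (Fin k → ℂ) = k := by simp
  set P := frame hφ hK
  have hZ : ∃ z, ρ (P.Z z) ≠ 1 := by
    by_contra h
    push Not at h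
    have hne : P.Z 1 ≠ 1 := fun e => one_ne_zero (α := K)
      (xe_eq_one (r := 23) (by decide) (Subtype.ext
        (congrArg (fun g : ↥(twistedD4 K q) => (g : GL chevD4.Idx K)) e)))
    haveI := hsimple
    rcases hsimple.eq_bot_or_eq_top_of_normal _ (MonoidHom.normal_ker ρ) with hb | ht
    · exact hne (Subgroup.mem_bot.1 (hb ▸ (h 1 : P.Z 1 ∈ MonoidHom.ker ρ)))
    · -- all of the group acts trivially, so every line is invariant
      have hall : ∀ g, ρ g = 1 := fun g => (ht ▸ Subgroup.mem_top g : g ∈ MonoidHom.ker ρ)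
      let W : Subrepresentation ρ := ⟨Submodule.span ℂ {Pi.single (⟨0, by omega⟩ : Fin k) 1},
        fun g v hv => by rw [hall]; exact hv⟩
      rcases eq_bot_or_eq_top W with hW | hW
      · have h1 : (Pi.single (⟨0, by omega⟩ : Fin k) (1 : ℂ) : Fin k → ℂ) ∈ W.toSubmodule :=
          Submodule.mem_span_singleton_self _
        rw [hW] at h1
        simpa using congrFun h1 ⟨0, by omega⟩
      · have h1 : W.toSubmodule = ⊤ := by rw [hW]; rfl
        have := congrArg (fun S : Submodule ℂ (Fin k → ℂ) => finrank ℂ S) h1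
        simp only [W, finrank_top, hfr] at this
        rw [finrank_span_singleton (by simp)] at this
        omega
  obtain ⟨t0, ht0⟩ := exists_moved_point hφ hK
  have hge := degree_ge (P := P) (ρ := ρ) ht0 (nm_surjective hφ hK) (card_F hφ hK)
    (by rw [Nat.card_eq_fintype_card, hK]) hZ
  have hdvd := CharBasic.finrank_dvd_card ρ
  rw [hfr, card_group hφ hK] at hdvd
  rw [hfr] at hge
  have hq := two_le hK
  have hne : k ≠ (q - 1) * (q * q ^ 3) + ((q - 1) * q ^ 3 + (q - 1)) :=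
    fun e => not_dvd_order hq (e ▸ hdvd)
  have h24 : q ^ 2 ≤ q ^ 4 := Nat.pow_le_pow_right (by omega) (by omega)
  have hid : q * (q ^ 4 - q ^ 2 + 1) =
      (q - 1) * (q * q ^ 3) + ((q - 1) * q ^ 3 + (q - 1)) + 1 := by
    zify [h24, show 1 ≤ q by omega]
    ring
  omega

end Cfsg.Agent.H38.D4Deg
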