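import Cfsg.Agent.H37.Twist.D4

/-!
Collection of products of positive root elements of `D₄`, in every characteristic, in the order
18, 13, 12, 14, 19, 16, 15, 17, 20, 21, 22, 23 of the folded roots.
-/
set_option autoImplicit false
set_option maxRecDepth 100000

namespace Cfsg.Agent.H38.D4Deg

open Cfsg.Lie Cfsg.Agent.H37 Cfsg.Agent.H37.RootSys Cfsg.Agent.H37.Twist
  Cfsg.Agent.H37.Twist.D4

variable {K : Type*} [Field K]

/-- `r`, `s` are distinct, not opposite roots with the given commutator. -/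
def pairC (r s : ℕ) (L : List (ℕ × ℤ × ℕ × ℕ)) : Bool :=
  decide (r < 24) && decide (s < 24) && decide (s ≠ r) && decide (s ≠ chevD4.neg r) &&
    (chevD4.commTerms r s == L)

theorem comm_pair {r s : ℕ} {L : List (ℕ × ℤ × ℕ × ℕ)} (h : pairC r s L = true) (t u : K) :
    xe s u * xe r t = xe r t * xe s u *
      (L.map fun c => xe c.1 ((c.2.1 : K) * (-t) ^ c.2.2.1 * u ^ c.2.2.2)).prod := by
  simp only [pairC, Bool.and_eq_true, decide_eq_true_eq, beq_iff_eq] at h
  refine Subtype.ext ?_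
  simp only [Subgroup.coe_mul, SubmonoidClass.coe_list_prod, List.map_map]
  change (QD K).K.xU K s u * (QD K).K.xU K r t = _
  rw [(QD K).K.xU_comm K h.1.1.1.1 h.1.1.1.2 h.1.1.2 h.1.2, ← h.2, ChevalleyDatum.commWord,
    Chevalley.Cert.wU, List.map_map]
  rfl

theorem swap0 {r s : ℕ} (h : pairC r s [] = true) (t u : K) :
    xe s u * xe r t = xe r t * xe s u := by
  rw [comm_pair h, List.map_nil, List.prod_nil, mul_one]

theorem swap0' {r s : ℕ} (h : pairC r s [] = true) (t u : K) (w : ↥(chevD4.group K)) :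
    xe s u * (xe r t * w) = xe r t * (xe s u * w) := by
  rw [← mul_assoc, swap0 h, mul_assoc]

theorem swapN {r s k : ℕ} (h : pairC r s [(k, -1, 1, 1)] = true) (t u : K) :
    xe s u * xe r t = xe r t * (xe s u * xe k (t * u)) := by
  rw [comm_pair h]
  simp [mul_assoc]

theorem swapN' {r s k : ℕ} (h : pairC r s [(k, -1, 1, 1)] = true) (t u : K)
    (w : ↥(chevD4.group K)) :
    xe s u * (xe r t * w) = xe r t * (xe s u * (xe k (t * u) * w)) := by
  rw [← mul_assoc, swapN h]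
  simp only [mul_assoc]

theorem swapP {r s k : ℕ} (h : pairC r s [(k, 1, 1, 1)] = true) (t u : K) :
    xe s u * xe r t = xe r t * (xe s u * xe k (-(t * u))) := by
  rw [comm_pair h]
  simp [mul_assoc]

theorem swapP' {r s k : ℕ} (h : pairC r s [(k, 1, 1, 1)] = true) (t u : K)
    (w : ↥(chevD4.group K)) :
    xe s u * (xe r t * w) = xe r t * (xe s u * (xe k (-(t * u)) * w)) := by
  rw [← mul_assoc, swapP h]
  simp only [mul_assoc]

theorem xe_add {r : ℕ} (hr : r < 24) (s t : K) : xe r s * xe r t = xe r (s + t) :=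
  ((QD K).sys.x_add' r hr s t).symm

theorem xe_add' {r : ℕ} (hr : r < 24) (s t : K) (w : ↥(chevD4.group K)) :
    xe r s * (xe r t * w) = xe r (s + t) * w := by rw [← mul_assoc, xe_add hr]

theorem xe_zero {r : ℕ} (hr : r < 24) : xe r (0 : K) = 1 := (QD K).sys.x_zero' hr

/-- The sums. -/
theorem sums :
    (∀ (s t : K) w, xe 18 s * (xe 18 t * w) = xe 18 (s + t) * w) ∧
    (∀ s t : K, xe 18 s * xe 18 t = xe 18 (s + t)) ∧
    (∀ (s t : K) w, xe 13 s * (xe 13 t * w) = xe 13 (s + t) * w) ∧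
    (∀ s t : K, xe 13 s * xe 13 t = xe 13 (s + t)) ∧
    (∀ (s t : K) w, xe 12 s * (xe 12 t * w) = xe 12 (s + t) * w) ∧
    (∀ s t : K, xe 12 s * xe 12 t = xe 12 (s + t)) ∧
    (∀ (s t : K) w, xe 14 s * (xe 14 t * w) = xe 14 (s + t) * w) ∧
    (∀ s t : K, xe 14 s * xe 14 t = xe 14 (s + t)) ∧
    (∀ (s t : K) w, xe 19 s * (xe 19 t * w) = xe 19 (s + t) * w) ∧
    (∀ s t : K, xe 19 s * xe 19 t = xe 19 (s + t)) ∧
    (∀ (s t : K) w, xe 16 s * (xe 16 t * w) = xe 16 (s + t) * w) ∧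
    (∀ s t : K, xe 16 s * xe 16 t = xe 16 (s + t)) ∧
    (∀ (s t : K) w, xe 15 s * (xe 15 t * w) = xe 15 (s + t) * w) ∧
    (∀ s t : K, xe 15 s * xe 15 t = xe 15 (s + t)) ∧
    (∀ (s t : K) w, xe 17 s * (xe 17 t * w) = xe 17 (s + t) * w) ∧
    (∀ s t : K, xe 17 s * xe 17 t = xe 17 (s + t)) ∧
    (∀ (s t : K) w, xe 20 s * (xe 20 t * w) = xe 20 (s + t) * w) ∧
    (∀ s t : K, xe 20 s * xe 20 t = xe 20 (s + t)) ∧
    (∀ (s t : K) w, xe 21 s * (xe 21 t * w) = xe 21 (s + t) * w) ∧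
    (∀ s t : K, xe 21 s * xe 21 t = xe 21 (s + t)) ∧
    (∀ (s t : K) w, xe 22 s * (xe 22 t * w) = xe 22 (s + t) * w) ∧
    (∀ s t : K, xe 22 s * xe 22 t = xe 22 (s + t)) ∧
    (∀ (s t : K) w, xe 23 s * (xe 23 t * w) = xe 23 (s + t) * w) ∧
    (∀ s t : K, xe 23 s * xe 23 t = xe 23 (s + t)) :=
  ⟨xe_add' (r := 18) (by decide), xe_add (r := 18) (by decide),
    xe_add' (r := 13) (by decide), xe_add (r := 13) (by decide),
    xe_add' (r := 12) (by decide), xe_add (r := 12) (by decide),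
    xe_add' (r := 14) (by decide), xe_add (r := 14) (by decide),
    xe_add' (r := 19) (by decide), xe_add (r := 19) (by decide),
    xe_add' (r := 16) (by decide), xe_add (r := 16) (by decide),
    xe_add' (r := 15) (by decide), xe_add (r := 15) (by decide),
    xe_add' (r := 17) (by decide), xe_add (r := 17) (by decide),
    xe_add' (r := 20) (by decide), xe_add (r := 20) (by decide),
    xe_add' (r := 21) (by decide), xe_add (r := 21) (by decide),
    xe_add' (r := 22) (by decide), xe_add (r := 22) (by decide),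
    xe_add' (r := 23) (by decide), xe_add (r := 23) (by decide)⟩

/-- The rules. -/
theorem rules :
    (∀ (t u : K) w, xe 13 u * (xe 18 t * w) = xe 18 t * (xe 13 u * w)) ∧
    (∀ t u : K, xe 13 u * xe 18 t = xe 18 t * xe 13 u) ∧
    (∀ (t u : K) w, xe 12 u * (xe 18 t * w) = xe 18 t * (xe 12 u * w)) ∧
    (∀ t u : K, xe 12 u * xe 18 t = xe 18 t * xe 12 u) ∧
    (∀ (t u : K) w, xe 14 u * (xe 18 t * w) =
      xe 18 t * (xe 14 u * (xe 19 (t * u) * w))) ∧
    (∀ t u : K, xe 14 u * xe 18 t = xe 18 t * (xe 14 u * xe 19 (t * u))) ∧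
    (∀ (t u : K) w, xe 19 u * (xe 18 t * w) = xe 18 t * (xe 19 u * w)) ∧
    (∀ t u : K, xe 19 u * xe 18 t = xe 18 t * xe 19 u) ∧
    (∀ (t u : K) w, xe 16 u * (xe 18 t * w) =
      xe 18 t * (xe 16 u * (xe 21 (t * u) * w))) ∧
    (∀ t u : K, xe 16 u * xe 18 t = xe 18 t * (xe 16 u * xe 21 (t * u))) ∧
    (∀ (t u : K) w, xe 15 u * (xe 18 t * w) =
      xe 18 t * (xe 15 u * (xe 20 (t * u) * w))) ∧
    (∀ t u : K, xe 15 u * xe 18 t = xe 18 t * (xe 15 u * xe 20 (t * u))) ∧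
    (∀ (t u : K) w, xe 17 u * (xe 18 t * w) =
      xe 18 t * (xe 17 u * (xe 22 (t * u) * w))) ∧
    (∀ t u : K, xe 17 u * xe 18 t = xe 18 t * (xe 17 u * xe 22 (t * u))) ∧
    (∀ (t u : K) w, xe 20 u * (xe 18 t * w) = xe 18 t * (xe 20 u * w)) ∧
    (∀ t u : K, xe 20 u * xe 18 t = xe 18 t * xe 20 u) ∧
    (∀ (t u : K) w, xe 21 u * (xe 18 t * w) = xe 18 t * (xe 21 u * w)) ∧
    (∀ t u : K, xe 21 u * xe 18 t = xe 18 t * xe 21 u) ∧
    (∀ (t u : K) w, xe 22 u * (xe 18 t * w) = xe 18 t * (xe 22 u * w)) ∧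
    (∀ t u : K, xe 22 u * xe 18 t = xe 18 t * xe 22 u) ∧
    (∀ (t u : K) w, xe 23 u * (xe 18 t * w) = xe 18 t * (xe 23 u * w)) ∧
    (∀ t u : K, xe 23 u * xe 18 t = xe 18 t * xe 23 u) ∧
    (∀ (t u : K) w, xe 12 u * (xe 13 t * w) = xe 13 t * (xe 12 u * w)) ∧
    (∀ t u : K, xe 12 u * xe 13 t = xe 13 t * xe 12 u) ∧
    (∀ (t u : K) w, xe 14 u * (xe 13 t * w) =
      xe 13 t * (xe 14 u * (xe 16 (-(t * u)) * w))) ∧
    (∀ t u : K, xe 14 u * xe 13 t = xe 13 t * (xe 14 u * xe 16 (-(t * u)))) ∧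
    (∀ (t u : K) w, xe 19 u * (xe 13 t * w) =
      xe 13 t * (xe 19 u * (xe 21 (-(t * u)) * w))) ∧
    (∀ t u : K, xe 19 u * xe 13 t = xe 13 t * (xe 19 u * xe 21 (-(t * u)))) ∧
    (∀ (t u : K) w, xe 16 u * (xe 13 t * w) = xe 13 t * (xe 16 u * w)) ∧
    (∀ t u : K, xe 16 u * xe 13 t = xe 13 t * xe 16 u) ∧
    (∀ (t u : K) w, xe 15 u * (xe 13 t * w) =
      xe 13 t * (xe 15 u * (xe 17 (-(t * u)) * w))) ∧
    (∀ t u : K, xe 15 u * xe 13 t = xe 13 t * (xe 15 u * xe 17 (-(t * u)))) ∧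
    (∀ (t u : K) w, xe 17 u * (xe 13 t * w) = xe 13 t * (xe 17 u * w)) ∧
    (∀ t u : K, xe 17 u * xe 13 t = xe 13 t * xe 17 u) ∧
    (∀ (t u : K) w, xe 20 u * (xe 13 t * w) =
      xe 13 t * (xe 20 u * (xe 22 (-(t * u)) * w))) ∧
    (∀ t u : K, xe 20 u * xe 13 t = xe 13 t * (xe 20 u * xe 22 (-(t * u)))) ∧
    (∀ (t u : K) w, xe 21 u * (xe 13 t * w) = xe 13 t * (xe 21 u * w)) ∧
    (∀ t u : K, xe 21 u * xe 13 t = xe 13 t * xe 21 u) ∧
    (∀ (t u : K) w, xe 22 u * (xe 13 t * w) = xe 13 t * (xe 22 u * w)) ∧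
    (∀ t u : K, xe 22 u * xe 13 t = xe 13 t * xe 22 u) ∧
    (∀ (t u : K) w, xe 23 u * (xe 13 t * w) = xe 13 t * (xe 23 u * w)) ∧
    (∀ t u : K, xe 23 u * xe 13 t = xe 13 t * xe 23 u) ∧
    (∀ (t u : K) w, xe 14 u * (xe 12 t * w) =
      xe 12 t * (xe 14 u * (xe 15 (-(t * u)) * w))) ∧
    (∀ t u : K, xe 14 u * xe 12 t = xe 12 t * (xe 14 u * xe 15 (-(t * u)))) ∧
    (∀ (t u : K) w, xe 19 u * (xe 12 t * w) =
      xe 12 t * (xe 19 u * (xe 20 (-(t * u)) * w))) ∧
    (∀ t u : K, xe 19 u * xe 12 t = xe 12 t * (xe 19 u * xe 20 (-(t * u)))) ∧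
    (∀ (t u : K) w, xe 16 u * (xe 12 t * w) =
      xe 12 t * (xe 16 u * (xe 17 (-(t * u)) * w))) ∧
    (∀ t u : K, xe 16 u * xe 12 t = xe 12 t * (xe 16 u * xe 17 (-(t * u)))) ∧
    (∀ (t u : K) w, xe 15 u * (xe 12 t * w) = xe 12 t * (xe 15 u * w)) ∧
    (∀ t u : K, xe 15 u * xe 12 t = xe 12 t * xe 15 u) ∧
    (∀ (t u : K) w, xe 17 u * (xe 12 t * w) = xe 12 t * (xe 17 u * w)) ∧
    (∀ t u : K, xe 17 u * xe 12 t = xe 12 t * xe 17 u) ∧
    (∀ (t u : K) w, xe 20 u * (xe 12 t * w) = xe 12 t * (xe 20 u * w)) ∧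
    (∀ t u : K, xe 20 u * xe 12 t = xe 12 t * xe 20 u) ∧
    (∀ (t u : K) w, xe 21 u * (xe 12 t * w) =
      xe 12 t * (xe 21 u * (xe 22 (-(t * u)) * w))) ∧
    (∀ t u : K, xe 21 u * xe 12 t = xe 12 t * (xe 21 u * xe 22 (-(t * u)))) ∧
    (∀ (t u : K) w, xe 22 u * (xe 12 t * w) = xe 12 t * (xe 22 u * w)) ∧
    (∀ t u : K, xe 22 u * xe 12 t = xe 12 t * xe 22 u) ∧
    (∀ (t u : K) w, xe 23 u * (xe 12 t * w) = xe 12 t * (xe 23 u * w)) ∧
    (∀ t u : K, xe 23 u * xe 12 t = xe 12 t * xe 23 u) ∧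
    (∀ (t u : K) w, xe 19 u * (xe 14 t * w) = xe 14 t * (xe 19 u * w)) ∧
    (∀ t u : K, xe 19 u * xe 14 t = xe 14 t * xe 19 u) ∧
    (∀ (t u : K) w, xe 16 u * (xe 14 t * w) = xe 14 t * (xe 16 u * w)) ∧
    (∀ t u : K, xe 16 u * xe 14 t = xe 14 t * xe 16 u) ∧
    (∀ (t u : K) w, xe 15 u * (xe 14 t * w) = xe 14 t * (xe 15 u * w)) ∧
    (∀ t u : K, xe 15 u * xe 14 t = xe 14 t * xe 15 u) ∧
    (∀ (t u : K) w, xe 17 u * (xe 14 t * w) = xe 14 t * (xe 17 u * w)) ∧
    (∀ t u : K, xe 17 u * xe 14 t = xe 14 t * xe 17 u) ∧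
    (∀ (t u : K) w, xe 20 u * (xe 14 t * w) = xe 14 t * (xe 20 u * w)) ∧
    (∀ t u : K, xe 20 u * xe 14 t = xe 14 t * xe 20 u) ∧
    (∀ (t u : K) w, xe 21 u * (xe 14 t * w) = xe 14 t * (xe 21 u * w)) ∧
    (∀ t u : K, xe 21 u * xe 14 t = xe 14 t * xe 21 u) ∧
    (∀ (t u : K) w, xe 22 u * (xe 14 t * w) =
      xe 14 t * (xe 22 u * (xe 23 (-(t * u)) * w))) ∧
    (∀ t u : K, xe 22 u * xe 14 t = xe 14 t * (xe 22 u * xe 23 (-(t * u)))) ∧
    (∀ (t u : K) w, xe 23 u * (xe 14 t * w) = xe 14 t * (xe 23 u * w)) ∧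
    (∀ t u : K, xe 23 u * xe 14 t = xe 14 t * xe 23 u) ∧
    (∀ (t u : K) w, xe 16 u * (xe 19 t * w) = xe 19 t * (xe 16 u * w)) ∧
    (∀ t u : K, xe 16 u * xe 19 t = xe 19 t * xe 16 u) ∧
    (∀ (t u : K) w, xe 15 u * (xe 19 t * w) = xe 19 t * (xe 15 u * w)) ∧
    (∀ t u : K, xe 15 u * xe 19 t = xe 19 t * xe 15 u) ∧
    (∀ (t u : K) w, xe 17 u * (xe 19 t * w) =
      xe 19 t * (xe 17 u * (xe 23 (t * u) * w))) ∧
    (∀ t u : K, xe 17 u * xe 19 t = xe 19 t * (xe 17 u * xe 23 (t * u))) ∧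
    (∀ (t u : K) w, xe 20 u * (xe 19 t * w) = xe 19 t * (xe 20 u * w)) ∧
    (∀ t u : K, xe 20 u * xe 19 t = xe 19 t * xe 20 u) ∧
    (∀ (t u : K) w, xe 21 u * (xe 19 t * w) = xe 19 t * (xe 21 u * w)) ∧
    (∀ t u : K, xe 21 u * xe 19 t = xe 19 t * xe 21 u) ∧
    (∀ (t u : K) w, xe 22 u * (xe 19 t * w) = xe 19 t * (xe 22 u * w)) ∧
    (∀ t u : K, xe 22 u * xe 19 t = xe 19 t * xe 22 u) ∧
    (∀ (t u : K) w, xe 23 u * (xe 19 t * w) = xe 19 t * (xe 23 u * w)) ∧
    (∀ t u : K, xe 23 u * xe 19 t = xe 19 t * xe 23 u) ∧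
    (∀ (t u : K) w, xe 15 u * (xe 16 t * w) = xe 16 t * (xe 15 u * w)) ∧
    (∀ t u : K, xe 15 u * xe 16 t = xe 16 t * xe 15 u) ∧
    (∀ (t u : K) w, xe 17 u * (xe 16 t * w) = xe 16 t * (xe 17 u * w)) ∧
    (∀ t u : K, xe 17 u * xe 16 t = xe 16 t * xe 17 u) ∧
    (∀ (t u : K) w, xe 20 u * (xe 16 t * w) =
      xe 16 t * (xe 20 u * (xe 23 (t * u) * w))) ∧
    (∀ t u : K, xe 20 u * xe 16 t = xe 16 t * (xe 20 u * xe 23 (t * u))) ∧
    (∀ (t u : K) w, xe 21 u * (xe 16 t * w) = xe 16 t * (xe 21 u * w)) ∧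
    (∀ t u : K, xe 21 u * xe 16 t = xe 16 t * xe 21 u) ∧
    (∀ (t u : K) w, xe 22 u * (xe 16 t * w) = xe 16 t * (xe 22 u * w)) ∧
    (∀ t u : K, xe 22 u * xe 16 t = xe 16 t * xe 22 u) ∧
    (∀ (t u : K) w, xe 23 u * (xe 16 t * w) = xe 16 t * (xe 23 u * w)) ∧
    (∀ t u : K, xe 23 u * xe 16 t = xe 16 t * xe 23 u) ∧
    (∀ (t u : K) w, xe 17 u * (xe 15 t * w) = xe 15 t * (xe 17 u * w)) ∧
    (∀ t u : K, xe 17 u * xe 15 t = xe 15 t * xe 17 u) ∧
    (∀ (t u : K) w, xe 20 u * (xe 15 t * w) = xe 15 t * (xe 20 u * w)) ∧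
    (∀ t u : K, xe 20 u * xe 15 t = xe 15 t * xe 20 u) ∧
    (∀ (t u : K) w, xe 21 u * (xe 15 t * w) =
      xe 15 t * (xe 21 u * (xe 23 (t * u) * w))) ∧
    (∀ t u : K, xe 21 u * xe 15 t = xe 15 t * (xe 21 u * xe 23 (t * u))) ∧
    (∀ (t u : K) w, xe 22 u * (xe 15 t * w) = xe 15 t * (xe 22 u * w)) ∧
    (∀ t u : K, xe 22 u * xe 15 t = xe 15 t * xe 22 u) ∧
    (∀ (t u : K) w, xe 23 u * (xe 15 t * w) = xe 15 t * (xe 23 u * w)) ∧
    (∀ t u : K, xe 23 u * xe 15 t = xe 15 t * xe 23 u) ∧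
    (∀ (t u : K) w, xe 20 u * (xe 17 t * w) = xe 17 t * (xe 20 u * w)) ∧
    (∀ t u : K, xe 20 u * xe 17 t = xe 17 t * xe 20 u) ∧
    (∀ (t u : K) w, xe 21 u * (xe 17 t * w) = xe 17 t * (xe 21 u * w)) ∧
    (∀ t u : K, xe 21 u * xe 17 t = xe 17 t * xe 21 u) ∧
    (∀ (t u : K) w, xe 22 u * (xe 17 t * w) = xe 17 t * (xe 22 u * w)) ∧
    (∀ t u : K, xe 22 u * xe 17 t = xe 17 t * xe 22 u) ∧
    (∀ (t u : K) w, xe 23 u * (xe 17 t * w) = xe 17 t * (xe 23 u * w)) ∧
    (∀ t u : K, xe 23 u * xe 17 t = xe 17 t * xe 23 u) ∧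
    (∀ (t u : K) w, xe 21 u * (xe 20 t * w) = xe 20 t * (xe 21 u * w)) ∧
    (∀ t u : K, xe 21 u * xe 20 t = xe 20 t * xe 21 u) ∧
    (∀ (t u : K) w, xe 22 u * (xe 20 t * w) = xe 20 t * (xe 22 u * w)) ∧
    (∀ t u : K, xe 22 u * xe 20 t = xe 20 t * xe 22 u) ∧
    (∀ (t u : K) w, xe 23 u * (xe 20 t * w) = xe 20 t * (xe 23 u * w)) ∧
    (∀ t u : K, xe 23 u * xe 20 t = xe 20 t * xe 23 u) ∧
    (∀ (t u : K) w, xe 22 u * (xe 21 t * w) = xe 21 t * (xe 22 u * w)) ∧
    (∀ t u : K, xe 22 u * xe 21 t = xe 21 t * xe 22 u) ∧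
    (∀ (t u : K) w, xe 23 u * (xe 21 t * w) = xe 21 t * (xe 23 u * w)) ∧
    (∀ t u : K, xe 23 u * xe 21 t = xe 21 t * xe 23 u) ∧
    (∀ (t u : K) w, xe 23 u * (xe 22 t * w) = xe 22 t * (xe 23 u * w)) ∧
    (∀ t u : K, xe 23 u * xe 22 t = xe 22 t * xe 23 u) :=
  ⟨swap0' (r := 18) (s := 13) (by decide +kernel),
    swap0 (r := 18) (s := 13) (by decide +kernel),
    swap0' (r := 18) (s := 12) (by decide +kernel),
    swap0 (r := 18) (s := 12) (by decide +kernel),
    swapN' (r := 18) (s := 14) (k := 19) (by decide +kernel),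
    swapN (r := 18) (s := 14) (k := 19) (by decide +kernel),
    swap0' (r := 18) (s := 19) (by decide +kernel),
    swap0 (r := 18) (s := 19) (by decide +kernel),
    swapN' (r := 18) (s := 16) (k := 21) (by decide +kernel),
    swapN (r := 18) (s := 16) (k := 21) (by decide +kernel),
    swapN' (r := 18) (s := 15) (k := 20) (by decide +kernel),
    swapN (r := 18) (s := 15) (k := 20) (by decide +kernel),
    swapN' (r := 18) (s := 17) (k := 22) (by decide +kernel),
    swapN (r := 18) (s := 17) (k := 22) (by decide +kernel),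
    swap0' (r := 18) (s := 20) (by decide +kernel),
    swap0 (r := 18) (s := 20) (by decide +kernel),
    swap0' (r := 18) (s := 21) (by decide +kernel),
    swap0 (r := 18) (s := 21) (by decide +kernel),
    swap0' (r := 18) (s := 22) (by decide +kernel),
    swap0 (r := 18) (s := 22) (by decide +kernel),
    swap0' (r := 18) (s := 23) (by decide +kernel),
    swap0 (r := 18) (s := 23) (by decide +kernel),
    swap0' (r := 13) (s := 12) (by decide +kernel),
    swap0 (r := 13) (s := 12) (by decide +kernel),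
    swapP' (r := 13) (s := 14) (k := 16) (by decide +kernel),
    swapP (r := 13) (s := 14) (k := 16) (by decide +kernel),
    swapP' (r := 13) (s := 19) (k := 21) (by decide +kernel),
    swapP (r := 13) (s := 19) (k := 21) (by decide +kernel),
    swap0' (r := 13) (s := 16) (by decide +kernel),
    swap0 (r := 13) (s := 16) (by decide +kernel),
    swapP' (r := 13) (s := 15) (k := 17) (by decide +kernel),
    swapP (r := 13) (s := 15) (k := 17) (by decide +kernel),
    swap0' (r := 13) (s := 17) (by decide +kernel),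
    swap0 (r := 13) (s := 17) (by decide +kernel),
    swapP' (r := 13) (s := 20) (k := 22) (by decide +kernel),
    swapP (r := 13) (s := 20) (k := 22) (by decide +kernel),
    swap0' (r := 13) (s := 21) (by decide +kernel),
    swap0 (r := 13) (s := 21) (by decide +kernel),
    swap0' (r := 13) (s := 22) (by decide +kernel),
    swap0 (r := 13) (s := 22) (by decide +kernel),
    swap0' (r := 13) (s := 23) (by decide +kernel),
    swap0 (r := 13) (s := 23) (by decide +kernel),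
    swapP' (r := 12) (s := 14) (k := 15) (by decide +kernel),
    swapP (r := 12) (s := 14) (k := 15) (by decide +kernel),
    swapP' (r := 12) (s := 19) (k := 20) (by decide +kernel),
    swapP (r := 12) (s := 19) (k := 20) (by decide +kernel),
    swapP' (r := 12) (s := 16) (k := 17) (by decide +kernel),
    swapP (r := 12) (s := 16) (k := 17) (by decide +kernel),
    swap0' (r := 12) (s := 15) (by decide +kernel),
    swap0 (r := 12) (s := 15) (by decide +kernel),
    swap0' (r := 12) (s := 17) (by decide +kernel),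
    swap0 (r := 12) (s := 17) (by decide +kernel),
    swap0' (r := 12) (s := 20) (by decide +kernel),
    swap0 (r := 12) (s := 20) (by decide +kernel),
    swapP' (r := 12) (s := 21) (k := 22) (by decide +kernel),
    swapP (r := 12) (s := 21) (k := 22) (by decide +kernel),
    swap0' (r := 12) (s := 22) (by decide +kernel),
    swap0 (r := 12) (s := 22) (by decide +kernel),
    swap0' (r := 12) (s := 23) (by decide +kernel),
    swap0 (r := 12) (s := 23) (by decide +kernel),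
    swap0' (r := 14) (s := 19) (by decide +kernel),
    swap0 (r := 14) (s := 19) (by decide +kernel),
    swap0' (r := 14) (s := 16) (by decide +kernel),
    swap0 (r := 14) (s := 16) (by decide +kernel),
    swap0' (r := 14) (s := 15) (by decide +kernel),
    swap0 (r := 14) (s := 15) (by decide +kernel),
    swap0' (r := 14) (s := 17) (by decide +kernel),
    swap0 (r := 14) (s := 17) (by decide +kernel),
    swap0' (r := 14) (s := 20) (by decide +kernel),
    swap0 (r := 14) (s := 20) (by decide +kernel),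
    swap0' (r := 14) (s := 21) (by decide +kernel),
    swap0 (r := 14) (s := 21) (by decide +kernel),
    swapP' (r := 14) (s := 22) (k := 23) (by decide +kernel),
    swapP (r := 14) (s := 22) (k := 23) (by decide +kernel),
    swap0' (r := 14) (s := 23) (by decide +kernel),
    swap0 (r := 14) (s := 23) (by decide +kernel),
    swap0' (r := 19) (s := 16) (by decide +kernel),
    swap0 (r := 19) (s := 16) (by decide +kernel),
    swap0' (r := 19) (s := 15) (by decide +kernel),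
    swap0 (r := 19) (s := 15) (by decide +kernel),
    swapN' (r := 19) (s := 17) (k := 23) (by decide +kernel),
    swapN (r := 19) (s := 17) (k := 23) (by decide +kernel),
    swap0' (r := 19) (s := 20) (by decide +kernel),
    swap0 (r := 19) (s := 20) (by decide +kernel),
    swap0' (r := 19) (s := 21) (by decide +kernel),
    swap0 (r := 19) (s := 21) (by decide +kernel),
    swap0' (r := 19) (s := 22) (by decide +kernel),
    swap0 (r := 19) (s := 22) (by decide +kernel),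
    swap0' (r := 19) (s := 23) (by decide +kernel),
    swap0 (r := 19) (s := 23) (by decide +kernel),
    swap0' (r := 16) (s := 15) (by decide +kernel),
    swap0 (r := 16) (s := 15) (by decide +kernel),
    swap0' (r := 16) (s := 17) (by decide +kernel),
    swap0 (r := 16) (s := 17) (by decide +kernel),
    swapN' (r := 16) (s := 20) (k := 23) (by decide +kernel),
    swapN (r := 16) (s := 20) (k := 23) (by decide +kernel),
    swap0' (r := 16) (s := 21) (by decide +kernel),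
    swap0 (r := 16) (s := 21) (by decide +kernel),
    swap0' (r := 16) (s := 22) (by decide +kernel),
    swap0 (r := 16) (s := 22) (by decide +kernel),
    swap0' (r := 16) (s := 23) (by decide +kernel),
    swap0 (r := 16) (s := 23) (by decide +kernel),
    swap0' (r := 15) (s := 17) (by decide +kernel),
    swap0 (r := 15) (s := 17) (by decide +kernel),
    swap0' (r := 15) (s := 20) (by decide +kernel),
    swap0 (r := 15) (s := 20) (by decide +kernel),
    swapN' (r := 15) (s := 21) (k := 23) (by decide +kernel),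
    swapN (r := 15) (s := 21) (k := 23) (by decide +kernel),
    swap0' (r := 15) (s := 22) (by decide +kernel),
    swap0 (r := 15) (s := 22) (by decide +kernel),
    swap0' (r := 15) (s := 23) (by decide +kernel),
    swap0 (r := 15) (s := 23) (by decide +kernel),
    swap0' (r := 17) (s := 20) (by decide +kernel),
    swap0 (r := 17) (s := 20) (by decide +kernel),
    swap0' (r := 17) (s := 21) (by decide +kernel),
    swap0 (r := 17) (s := 21) (by decide +kernel),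
    swap0' (r := 17) (s := 22) (by decide +kernel),
    swap0 (r := 17) (s := 22) (by decide +kernel),
    swap0' (r := 17) (s := 23) (by decide +kernel),
    swap0 (r := 17) (s := 23) (by decide +kernel),
    swap0' (r := 20) (s := 21) (by decide +kernel),
    swap0 (r := 20) (s := 21) (by decide +kernel),
    swap0' (r := 20) (s := 22) (by decide +kernel),
    swap0 (r := 20) (s := 22) (by decide +kernel),
    swap0' (r := 20) (s := 23) (by decide +kernel),
    swap0 (r := 20) (s := 23) (by decide +kernel),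
    swap0' (r := 21) (s := 22) (by decide +kernel),
    swap0 (r := 21) (s := 22) (by decide +kernel),
    swap0' (r := 21) (s := 23) (by decide +kernel),
    swap0 (r := 21) (s := 23) (by decide +kernel),
    swap0' (r := 22) (s := 23) (by decide +kernel),
    swap0 (r := 22) (s := 23) (by decide +kernel)⟩

end Cfsg.Agent.H38.D4Deg
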